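import Mathlib

/-!
A group of automorphisms of an elementary abelian group of order `2 ^ 11` with an orbit `N` of
length 276 whose shape near one further element `z` is that of the even cocode of length 24:
six blocks, fifteen cosets. First consequences: sizes of the pieces.
-/

set_option autoImplicit false

namespace Cfsg.Agent.H61.Todd

variable {V : Type*} [CommGroup V]

/-- The local data. -/
structure Data (Γ : Subgroup (MulAut V)) where
  N : Set V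
  z : V
  W : Subgroup V
  P : Fin 6 → Subgroup V
  Qb : Subgroup (MulAut V)
  sq : ∀ v : V, v * v = 1
  card_V : Nat.card V = 2048
  card_N : N.ncard = 276
  one_N : (1 : V) ∉ N
  z_ne : z ≠ 1
  z_N : z ∉ N
  inv : ∀ g ∈ Γ, ∀ v ∈ N, g v ∈ N
  trans : ∀ s ∈ N, ∀ t ∈ N, ∃ g ∈ Γ, g s = t
  card_dvd : 27202560 ∣ Nat.card Γ
  seven : ∀ g ∈ Γ, orderOf g = 7 → ∀ v, g v = v → v = 1 ∨ v ∈ N
  card_P : ∀ i, Nat.card (P i) = 8
  z_P : ∀ i, z ∈ P i
  P_W : ∀ i, P i ≤ W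
  P_inter : ∀ i j, i ≠ j → ∀ v, v ∈ P i → v ∈ P j → v = 1 ∨ v = z
  N_W : ∀ v ∈ W, v ∈ N ↔ (v ≠ 1 ∧ v ≠ z ∧ ∃ i, v ∈ P i)
  cross : ∀ i j, i ≠ j → ∀ s ∈ P i, ∀ t ∈ P j, s ∈ N → t ∈ N → s * t ∉ N
  Qb_le : Qb ≤ Γ
  Qb_z : ∀ q ∈ Qb, q z = z
  Qb_coset : ∀ q ∈ Qb, ∀ v, q v * v ∈ W
  Qb_W : ∀ q ∈ Qb, ∀ w ∈ W, q w = w ∨ q w = w * z
  sep : ∀ s ∈ W, ∀ t ∈ W, t ≠ 1 → t ≠ z → t ≠ s → t ≠ s * z →
    ∃ q ∈ Qb, q s = s ∧ q t = t * z
  coset : ∀ x ∈ N, x ∉ W → ∃ i j, i ≠ j ∧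
    ∀ w ∈ W, (x * w ∈ N ∨ x * w * z ∈ N) ↔ w ∈ P i ⊔ P j
  excl : ∀ x ∈ N, x ∉ W → x * z ∉ N
  orbit : ∀ x ∈ N, x ∉ W → ∀ y ∈ N, x * y ∈ W → ∃ q ∈ Qb, q x = y
  five : ∀ t ∈ W, t ∈ N →
    {x | x ∈ N ∧ x ∉ W ∧ (t * x ∈ N ∨ t * z * x ∈ N)}.ncard = 80

section lemmas

variable [Finite V]

theorem dvd_ncard_of_free (g : Equiv.Perm V) {p : ℕ} (hp : p.Prime) (hg : g ^ p = 1) (S : Set V)
    (hinv : ∀ v ∈ S, g v ∈ S) (hfree : ∀ v ∈ S, g v ≠ v) : p ∣ S.ncard := by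
  classical
  have := Fact.mk hp
  let inst := Fintype.ofFinite ↥S
  have hinj : Function.Injective fun v : ↥S => (⟨g v, hinv v v.2⟩ : ↥S) := fun a b h =>
    Subtype.ext (g.injective (congrArg Subtype.val h))
  let σ : Equiv.Perm ↥S := Equiv.ofBijective _ (Finite.injective_iff_bijective.1 hinj)
  by_contra hd
  have hpow : ∀ n : ℕ, ∀ v : ↥S, ((σ ^ n) v : V) = (g ^ n) (v : V) := by
    intro n
    induction n with
    | zero => intro v; simp
    | succ n ih =>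
      intro v
      rw [pow_succ', pow_succ', Equiv.Perm.mul_apply, Equiv.Perm.mul_apply, ← ih v]
      rfl
  have hσ : σ ^ p ^ 1 = 1 := by
    ext v
    rw [pow_one, hpow, hg]
    rfl
  have hcard : ¬p ∣ Fintype.card ↥S := by
    rwa [← Nat.card_eq_fintype_card, Nat.card_coe_set_eq]
  obtain ⟨a, ha⟩ := Equiv.Perm.exists_fixed_point_of_prime hcard hσ
  exact hfree a a.2 (congrArg Subtype.val ha)

theorem dvd_ncard_of_auto (g : MulAut V) {p : ℕ} (hp : p.Prime) (hg : g ^ p = 1) (S : Set V)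
    (hinv : ∀ v ∈ S, g v ∈ S) (hfree : ∀ v ∈ S, g v ≠ v) : p ∣ S.ncard :=
  dvd_ncard_of_free (MulAut.toPerm V g) hp (by rw [← map_pow, hg, map_one]) S hinv hfree

theorem two_dvd_ncard_of_translate (c : V) (hc : c ≠ 1) (hc2 : c * c = 1) (S : Set V)
    (hinv : ∀ v ∈ S, v * c ∈ S) : 2 ∣ S.ncard := by
  refine dvd_ncard_of_free (Equiv.mulRight c) Nat.prime_two ?_ S hinv
    fun v _ h => hc (mul_eq_left.1 h)
  ext v
  show v * c * c = v
  rw [mul_assoc, hc2, mul_one]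

omit [Finite V] in
/-- Fibres of equal size. -/
theorem dvd_ncard_of_fibers [Finite V] (W : Subgroup V) {m : ℕ} (S : Set V)
    (h : ∀ x ∈ S, {y | y ∈ S ∧ x⁻¹ * y ∈ W}.ncard = m) : m ∣ S.ncard := by
  classical
  let inst := Fintype.ofFinite V
  rw [Set.ncard_eq_toFinset_card' S, Finset.card_eq_sum_card_fiberwise (f := fun x : V => (x : V ⧸ W))
    (t := S.toFinset.image fun x : V => (x : V ⧸ W)) fun x hx => Finset.mem_image_of_mem _ hx]
  refine Finset.dvd_sum fun c hc => ?_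
  obtain ⟨x, hx, rfl⟩ := Finset.mem_image.1 hc
  rw [← h x (Set.mem_toFinset.1 hx), Set.ncard_eq_toFinset_card' _]
  refine dvd_of_eq (congrArg Finset.card ?_)
  ext y
  simp only [Finset.mem_filter, Set.mem_toFinset, Set.mem_ofPred_eq, ← QuotientGroup.eq]
  exact and_congr_right fun _ => eq_comm

/-- The elements fixed by an automorphism. -/
def fixedBy (g : MulAut V) : Subgroup V where
  carrier := {v | g v = v}
  one_mem' := map_one g
  mul_mem' := fun {a b} ha hb => by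
    show g (a * b) = a * b
    rw [map_mul, show g a = a from ha, show g b = b from hb]
  inv_mem' := fun {a} ha => by
    show g a⁻¹ = a⁻¹
    rw [map_inv, show g a = a from ha]

omit [Finite V] in
theorem mem_fixedBy {g : MulAut V} {v : V} : v ∈ fixedBy g ↔ g v = v := Iff.rfl

theorem fixedBy_card (g : MulAut V) {p : ℕ} (hp : p.Prime) (hg : orderOf g = p)
    (hV : Nat.card V = 2048) :
    ∃ d < 11, Nat.card (fixedBy g) = 2 ^ d ∧ p ∣ 2048 - 2 ^ d := by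
  have hdvd : Nat.card (fixedBy g) ∣ 2 ^ 11 := by
    have := Subgroup.card_subgroup_dvd_card (fixedBy g)
    rwa [hV] at this
  obtain ⟨d, hd, hdc⟩ := (Nat.dvd_prime_pow Nat.prime_two).1 hdvd
  have hgp : g ^ p = 1 := hg ▸ pow_orderOf_eq_one g
  have hne : g ≠ 1 := fun h => by
    rw [h, orderOf_one] at hg
    exact hp.ne_one hg.symm
  refine ⟨d, lt_of_le_of_ne hd fun h => hne ?_, hdc, ?_⟩
  · subst h
    have htop : fixedBy g = ⊤ := Subgroup.eq_top_of_card_eq _ (by rw [hdc, hV]; norm_num)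
    exact MulEquiv.ext fun v => mem_fixedBy.1 (htop ▸ Subgroup.mem_top v)
  have h := dvd_ncard_of_auto g hp hgp ((fixedBy g : Set V)ᶜ)
    (fun v hv hgv => hv (g.injective (mem_fixedBy.1 hgv))) (fun v hv => hv)
  rwa [Set.ncard_compl, hV, ← Nat.card_coe_set_eq, SetLike.coe_sort_coe, hdc] at h

end lemmas

namespace Data

variable {Γ : Subgroup (MulAut V)} (D : Data Γ)
include D

theorem inv_eq (v : V) : v⁻¹ = v := inv_eq_of_mul_eq_one_right (D.sq v)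

theorem cancel (a b : V) : a * (a * b) = b := by rw [← mul_assoc, D.sq, one_mul]

theorem cancel_mid (a b : V) : a * b * a = b := by rw [mul_comm (a * b), D.cancel]

theorem eq_of_mul_eq_one {a b : V} (h : a * b = 1) : b = a := by
  rw [← D.cancel a b, h, mul_one]

theorem inv' {g : MulAut V} (hg : g ∈ Γ) {v : V} : g v ∈ D.N ↔ v ∈ D.N := by
  refine ⟨fun h => ?_, D.inv g hg v⟩
  have := D.inv g⁻¹ (Γ.inv_mem hg) _ h
  rwa [← MulAut.mul_apply, inv_mul_cancel, MulAut.one_apply] at this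

theorem z_W : D.z ∈ D.W := D.P_W 0 (D.z_P 0)

theorem ne_one_of_N {v : V} (h : v ∈ D.N) : v ≠ 1 := fun e => D.one_N (e ▸ h)

theorem ne_z_of_N {v : V} (h : v ∈ D.N) : v ≠ D.z := fun e => D.z_N (e ▸ h)

theorem ne_mul_z (v : V) : v ≠ v * D.z := fun h => D.z_ne (mul_eq_left.1 h.symm)

theorem ne_mul_z_of_N {t : V} (ht : t ∈ D.N) {v : V} : v ≠ t * v := fun h =>
  D.ne_one_of_N ht (mul_eq_right.1 h.symm)

theorem mem_W_mul_iff {w v : V} (hw : w ∈ D.W) : w * v ∈ D.W ↔ v ∈ D.W :=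
  D.W.mul_mem_cancel_left hw

/-- Neighbours. -/
def Nb (t : V) : Set V := {u | u ∈ D.N ∧ t * u ∈ D.N}

/-- Common neighbours other than the product. -/
def Com (t u : V) : Set V := {v | v ∈ D.Nb t ∧ v ∈ D.Nb u ∧ v ≠ t * u}

theorem Nb_symm {t u : V} (ht : t ∈ D.N) (h : u ∈ D.Nb t) : t ∈ D.Nb u :=
  ⟨ht, by rw [mul_comm]; exact h.2⟩

theorem mul_mem_Nb {t u : V} (h : u ∈ D.Nb t) : t * u ∈ D.Nb t :=
  ⟨h.2, by rw [D.cancel]; exact h.1⟩

theorem ne_of_Nb {t u : V} (h : u ∈ D.Nb t) : u ≠ t := fun e =>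
  D.one_N (by have := h.2; rwa [e, D.sq] at this)

theorem Nb_map {g : MulAut V} (hg : g ∈ Γ) (t u : V) : g u ∈ D.Nb (g t) ↔ u ∈ D.Nb t := by
  show g u ∈ D.N ∧ g t * g u ∈ D.N ↔ _
  rw [← map_mul, D.inv' hg, D.inv' hg]
  rfl

theorem Com_map {g : MulAut V} (hg : g ∈ Γ) (t u v : V) :
    g v ∈ D.Com (g t) (g u) ↔ v ∈ D.Com t u := by
  show g v ∈ D.Nb (g t) ∧ g v ∈ D.Nb (g u) ∧ g v ≠ g t * g u ↔ _
  rw [D.Nb_map hg, D.Nb_map hg, ← map_mul, g.injective.ne_iff]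
  rfl

theorem block_unique {t : V} (ht : t ∈ D.N) {i j : Fin 6} (hi : t ∈ D.P i) (hj : t ∈ D.P j) :
    i = j := by
  by_contra hne
  rcases D.P_inter i j hne t hi hj with h | h
  · exact D.ne_one_of_N ht h
  · exact D.ne_z_of_N ht h

theorem exists_block {t : V} (htW : t ∈ D.W) (ht : t ∈ D.N) : ∃ i, t ∈ D.P i :=
  ((D.N_W t htW).1 ht).2.2

theorem N_of_block {i : Fin 6} {t : V} (h : t ∈ D.P i) (h1 : t ≠ 1) (hz : t ≠ D.z) : t ∈ D.N :=
  (D.N_W t (D.P_W i h)).2 ⟨h1, hz, i, h⟩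

theorem mul_z_N {t : V} (htW : t ∈ D.W) (ht : t ∈ D.N) : t * D.z ∈ D.N := by
  obtain ⟨i, hi⟩ := D.exists_block htW ht
  refine D.N_of_block ((D.P i).mul_mem hi (D.z_P i)) (fun h => ?_) fun h => ?_
  · exact D.ne_z_of_N ht (D.eq_of_mul_eq_one (a := D.z) (b := t) (by rwa [mul_comm] at h))
  · exact D.ne_one_of_N ht (mul_eq_right.1 h)

theorem block_le_sup {t : V} (htN : t ∈ D.N) {i j k : Fin 6} (hk : t ∈ D.P k) (hij : i ≠ j)
    (h : t ∈ D.P i ⊔ D.P j) : D.P k ≤ D.P i ⊔ D.P j := by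
  obtain ⟨a, ha, b, hb, hab⟩ := Subgroup.mem_sup.1 h
  by_cases ha' : a = 1 ∨ a = D.z
  · have hj : t ∈ D.P j := hab ▸ (D.P j).mul_mem
      (by rcases ha' with rfl | rfl; exacts [one_mem _, D.z_P j]) hb
    rw [D.block_unique htN hk hj]
    exact le_sup_right
  by_cases hb' : b = 1 ∨ b = D.z
  · have hi : t ∈ D.P i := hab ▸ (D.P i).mul_mem ha
      (by rcases hb' with rfl | rfl; exacts [one_mem _, D.z_P i])
    rw [D.block_unique htN hk hi]
    exact le_sup_left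
  simp only [not_or] at ha' hb'
  exact absurd (hab ▸ htN) (D.cross i j hij a ha b hb
    (D.N_of_block ha ha'.1 ha'.2) (D.N_of_block hb hb'.1 hb'.2))

theorem card_sup {i j : Fin 6} (hij : i ≠ j) : Nat.card ↥(D.P i ⊔ D.P j) = 32 := by
  let f : ↥(D.P i) × ↥(D.P j) →* V := (D.P i).subtype.coprod (D.P j).subtype
  have hr : f.range = D.P i ⊔ D.P j := by
    show ((D.P i).subtype.coprod (D.P j).subtype).range = _
    ext x
    rw [Subgroup.mem_sup, MonoidHom.mem_range]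
    constructor
    · rintro ⟨⟨a, b⟩, rfl⟩
      exact ⟨a, a.2, b, b.2, rfl⟩
    · rintro ⟨a, ha, b, hb, rfl⟩
      exact ⟨(⟨a, ha⟩, ⟨b, hb⟩), rfl⟩
  have hk : Nat.card f.ker = 2 := by
    rw [Nat.card_eq_two_iff]
    refine ⟨1, ⟨(⟨D.z, D.z_P i⟩, ⟨D.z, D.z_P j⟩), ?_⟩, fun h => ?_, ?_⟩
    · show D.z * D.z = 1
      exact D.sq _
    · exact D.z_ne (congrArg (fun p => ((p.1.1 : ↥(D.P i)) : V)) h).symm
    · rw [Set.eq_univ_iff_forall]
      rintro ⟨⟨a, b⟩, h⟩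
      have hb : (b : V) = a := D.eq_of_mul_eq_one (show (a : V) * b = 1 from h)
      rcases D.P_inter i j hij a a.2 (hb ▸ b.2) with ha | ha
      · refine Set.mem_insert_iff.2 (Or.inl (Subtype.ext (Prod.ext (Subtype.ext ha) ?_)))
        exact Subtype.ext (hb.trans ha)
      · refine Set.mem_insert_iff.2 (Or.inr (Set.mem_singleton_iff.2
          (Subtype.ext (Prod.ext (Subtype.ext ha) ?_))))
        exact Subtype.ext (hb.trans ha)
  have h := Subgroup.card_eq_card_quotient_mul_card_subgroup f.ker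
  rw [hk, Nat.card_prod, D.card_P, D.card_P,
    Nat.card_congr (QuotientGroup.quotientKerEquivRange f).toEquiv, hr] at h
  omega

section finite

variable [Finite V]

theorem card_fiber {x : V} (hx : x ∈ D.N) (hxW : x ∉ D.W) :
    {y | y ∈ D.N ∧ x * y ∈ D.W}.ncard = 16 := by
  obtain ⟨i, j, hij, hc⟩ := D.coset x hx hxW
  set O := {y | y ∈ D.N ∧ x * y ∈ D.W} with hO
  have hOz : ∀ y ∈ O, y * D.z ∉ D.N := fun y hy => D.excl y hy.1 fun hyW =>
    hxW (((D.W.mul_mem_cancel_right hyW).1 hy.2))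
  have hun : O ∪ (fun y => y * D.z) '' O = (fun w => x * w) '' (D.P i ⊔ D.P j : Subgroup V) := by
    ext v
    constructor
    · intro hv
      refine ⟨x * v, ?_, D.cancel x v⟩
      rcases hv with hv | ⟨y, hy, rfl⟩
      · exact (hc _ hv.2).1 (Or.inl (by rw [D.cancel]; exact hv.1))
      · have hW : x * (y * D.z) ∈ D.W := by
          rw [← mul_assoc]; exact D.W.mul_mem hy.2 D.z_W
        refine (hc _ hW).1 (Or.inr ?_)
        rw [D.cancel, mul_assoc, D.sq, mul_one]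
        exact hy.1
    · rintro ⟨w, hw, rfl⟩
      have hwW : w ∈ D.W := (sup_le (D.P_W i) (D.P_W j)) hw
      rcases (hc w hwW).2 hw with h | h
      · exact Or.inl ⟨h, by rw [D.cancel]; exact hwW⟩
      · refine Or.inr ⟨x * w * D.z, ⟨h, ?_⟩, ?_⟩
        · rw [mul_assoc x w, D.cancel]; exact D.W.mul_mem hwW D.z_W
        · show x * w * D.z * D.z = x * w
          rw [mul_assoc, D.sq, mul_one]
  have hdis : Disjoint O ((fun y => y * D.z) '' O) := by
    rw [Set.disjoint_left]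
    rintro v hv ⟨y, hy, rfl⟩
    exact hOz y hy hv.1
  have h := Set.ncard_union_eq hdis (Set.toFinite _) (Set.toFinite _)
  rw [hun, Set.ncard_image_of_injective _ (mul_right_injective x),
    Set.ncard_image_of_injective _ (mul_left_injective D.z), ← Nat.card_coe_set_eq,
    SetLike.coe_sort_coe, D.card_sup hij] at h
  omega

/-- A set split into two parts exchanged by an automorphism. -/
theorem half {S : Set V} (q : MulAut V) (hS : ∀ v ∈ S, q v ∈ S) (p r : V → Prop)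
    (hor : ∀ v ∈ S, p v ∨ r v) (hnand : ∀ v ∈ S, p v → ¬r v)
    (hpr : ∀ v ∈ S, p v → r (q v)) (hrp : ∀ v ∈ S, r v → p (q v)) :
    2 * {v | v ∈ S ∧ p v}.ncard = S.ncard := by
  have h1 : {v | v ∈ S ∧ p v}.ncard ≤ {v | v ∈ S ∧ r v}.ncard :=
    Set.ncard_le_ncard_of_injOn q (fun v hv => ⟨hS v hv.1, hpr v hv.1 hv.2⟩)
      q.injective.injOn (Set.toFinite _)
  have h2 : {v | v ∈ S ∧ r v}.ncard ≤ {v | v ∈ S ∧ p v}.ncard :=
    Set.ncard_le_ncard_of_injOn q (fun v hv => ⟨hS v hv.1, hrp v hv.1 hv.2⟩)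
      q.injective.injOn (Set.toFinite _)
  have hu : {v | v ∈ S ∧ p v} ∪ {v | v ∈ S ∧ r v} = S := by
    ext v
    simp only [Set.mem_union, Set.mem_ofPred_eq]
    constructor
    · rintro (h | h) <;> exact h.1
    · intro hv; rcases hor v hv with h | h; exacts [Or.inl ⟨hv, h⟩, Or.inr ⟨hv, h⟩]
  have h := Set.ncard_union_eq (Set.disjoint_left.2 fun v hv hv' => hnand v hv.1 hv.2 hv'.2)
    (Set.toFinite {v | v ∈ S ∧ p v}) (Set.toFinite {v | v ∈ S ∧ r v})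
  rw [hu] at h
  omega

/-- Exactly one of the two lifts meets a neighbour outside `W`. -/
theorem lift_or {t x : V} (htW : t ∈ D.W) (hxW : x ∉ D.W) :
    ¬(t * x ∈ D.N ∧ t * D.z * x ∈ D.N) := by
  rintro ⟨h1, h2⟩
  refine D.excl _ h1 (fun h => hxW ((D.mem_W_mul_iff htW).1 h)) ?_
  rwa [mul_right_comm] at h2

theorem lift_block {t u x : V} {i : Fin 6} (hti : t ∈ D.P i) (ht : t ∈ D.N) (hu : u ∈ D.P i)
    (hx : x ∈ D.N) (hxW : x ∉ D.W) (h : t * x ∈ D.N ∨ t * D.z * x ∈ D.N) :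
    u * x ∈ D.N ∨ u * D.z * x ∈ D.N := by
  obtain ⟨a, b, hab, hc⟩ := D.coset x hx hxW
  have e : ∀ w, (x * w ∈ D.N ∨ x * w * D.z ∈ D.N) ↔ (w * x ∈ D.N ∨ w * D.z * x ∈ D.N) :=
    fun w => by rw [mul_comm x w, mul_right_comm w x]
  have htL := (hc t (D.P_W i hti)).1 ((e t).2 h)
  exact (e u).1 ((hc u (D.P_W i hu)).2 (D.block_le_sup ht hti hab htL hu))

end finite

end Data

end Cfsg.Agent.H61.Todd
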