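import Cfsg.Agent.H61.Todd.Local
import Cfsg.Agent.H61.Todd.Basic

/-!
The conjugates and non-conjugates of the central involution in the subgroup of order `2 ^ 11`:
those in the core, and the orbits of the core on each coset.
-/

set_option autoImplicit false
set_option maxRecDepth 20000

namespace Cfsg.Agent.H61.Todd

open Cfsg Cfsg.Agent.Compute Cfsg.Agent.Unitary Cfsg.Agent.H41.SUSix Cfsg.Agent.H41.LFi
  Cfsg.Agent.H43.LFi Matrix

attribute [local irreducible] mC sigC bIdx wApC mulVecC wP eP uC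

variable {G : Type*} [Group G] [Finite G] {z g : G} {Q : Subgroup G} (S : LSetup z Q)
  (hp : H92.PairSetting Q z g)

theorem bIdx_zero' : bIdx 0 = 0 := by unfold bIdx; rfl

/-- The orbit under the core. -/
def orbQ (Q : Subgroup G) (x : G) : Set G := (fun q => q * x * q⁻¹) '' (Q : Set G)

theorem mem_orbQ_self (x : G) : x ∈ orbQ Q x := ⟨1, Q.one_mem, by simp⟩

theorem orbQ_eq {x y : G} (h : y ∈ orbQ Q x) : orbQ Q y = orbQ Q x := by
  obtain ⟨q, hq, rfl⟩ := h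
  ext v
  constructor
  · rintro ⟨r, hr, rfl⟩
    exact ⟨r * q, Q.mul_mem hr hq, by group⟩
  · rintro ⟨r, hr, rfl⟩
    exact ⟨r * q⁻¹, Q.mul_mem hr (Q.inv_mem hq), by group⟩

theorem card_orbQ (x : G) :
    (orbQ Q x).ncard * Nat.card ↥(Q ⊓ Subgroup.centralizer ({x} : Set G)) = Nat.card Q := by
  let act : ↥Q →* Equiv.Perm G := (MulAut.toPerm G).comp (MulAut.conj.comp Q.subtype)
  let inst : MulAction ↥Q G := MulAction.compHom G act
  have ho : MulAction.orbit ↥Q x = orbQ Q x := by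
    ext v
    constructor
    · rintro ⟨q, rfl⟩; exact ⟨q, q.2, rfl⟩
    · rintro ⟨q, hq, rfl⟩; exact ⟨⟨q, hq⟩, rfl⟩
  have hs : MulAction.stabilizer ↥Q x = (Q ⊓ Subgroup.centralizer ({x} : Set G)).subgroupOf Q := by
    ext q
    rw [MulAction.mem_stabilizer_iff, Subgroup.mem_subgroupOf, Subgroup.mem_inf,
      Subgroup.mem_centralizer_singleton_iff, and_iff_right q.2]
    show (q : G) * x * (q : G)⁻¹ = x ↔ _
    exact mul_inv_eq_iff_eq_mul
  rw [← ho, ← MulAction.index_stabilizer, hs, mul_comm,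
    ← Nat.card_congr (Subgroup.subgroupOfEquivOfLe (inf_le_left :
      Q ⊓ Subgroup.centralizer ({x} : Set G) ≤ Q)).toEquiv, Subgroup.card_mul_index]

theorem ρ_A_zero {x : G} (hx : x ∈ Aelem S) : S.ρ x = eP (bIdx 0) ↔ x ∈ Q := by
  rw [bIdx_zero', eP_zero]
  exact S.ρ_ker x (A_z S hx)

theorem exists_idx {x : G} (hx : x ∈ Aelem S) : ∃ j < 16, S.ρ x = eP (bIdx j) :=
  ((mem_Aelem S).1 hx).1.2

theorem idx_unique {i j : ℕ} (hi : i < 16) (hj : j < 16) (h : eP (bIdx i) = eP (bIdx j)) :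
    i = j := bIdx_inj i hi j hj (eP_inj (bIdx_lt i hi) (bIdx_lt j hj) h)

theorem idx_ne_zero {x : G} (hx : x ∈ Aelem S) (hQ : x ∉ Q) {j : ℕ}
    (h : S.ρ x = eP (bIdx j)) : j ≠ 0 := fun e => hQ ((ρ_A_zero S hx).1 (e ▸ h))

theorem conj_mem_A {q x : G} (hq : q ∈ Q) (hx : x ∈ Aelem S) : q * x * q⁻¹ ∈ Aelem S :=
  (Subgroup.mem_normalizer_iff.1 (Q_le_normalizer S hq) x).1 hx

theorem piU_iff {x : G} (hx : x ∈ Aelem S) : x ∈ piU S ↔ x ∈ Q :=
  ⟨fun h => h.1, fun h => A_inf_Q S ▸ Subgroup.mem_inf.2 ⟨hx, h⟩⟩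

theorem comm_pi {q x : G} (hq : q ∈ Q) (hx : x ∈ Aelem S) {j : ℕ} (hj : S.ρ x = eP (bIdx j)) :
    x * (q * x * q⁻¹) ∈ piU S ∧ S.π (x * (q * x * q⁻¹)) = dlt j (S.π q) := by
  have hxz := A_z S hx
  have hxi : x⁻¹ = x := inv_eq_of_mul_eq_one_right (A_sq S hx)
  have e : x * (q * x * q⁻¹) = (x * q * x⁻¹) * q⁻¹ := by rw [hxi]; group
  have h1 := S.norm x hxz q hq
  have hQ : x * (q * x * q⁻¹) ∈ Q := e ▸ Q.mul_mem h1 (Q.inv_mem hq)
  refine ⟨A_inf_Q S ▸ Subgroup.mem_inf.2 ⟨mul_mem hx (conj_mem_A S hq hx), hQ⟩, ?_⟩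
  rw [e, S.π_mul _ h1 _ (Q.inv_mem hq), S.π_inv hq, S.ρ_π x hxz q hq, hj]
  rfl

theorem ρ_mul_piU {x w : G} (hx : x ∈ Aelem S) (hw : w ∈ piU S) : S.ρ (x * w) = S.ρ x := by
  rw [S.ρ_mul x w (A_z S hx) (S.le w hw.1), (S.ρ_ker w (S.le w hw.1)).2 hw.1, mul_one]

theorem orbQ_sub {x : G} (hx : x ∈ Aelem S) {j : ℕ} (hj : S.ρ x = eP (bIdx j)) :
    orbQ Q x ⊆ {v | v ∈ Aelem S ∧ x * v ∈ piU S ∧ S.π (x * v) ∈ Set.range (dlt j) ∧
      S.ρ v = eP (bIdx j)} := by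
  rintro _ ⟨q, hq, rfl⟩
  obtain ⟨h1, h2⟩ := comm_pi S hq hx hj
  refine ⟨conj_mem_A S hq hx, h1, ⟨_, h2.symm⟩, ?_⟩
  rw [S.ρ_mul _ _ (S.z_comm_mul (S.le q hq) (A_z S hx)) (S.z_comm_inv (S.le q hq)),
    S.ρ_mul _ _ (S.le q hq) (A_z S hx), S.ρ_inv (S.le q hq), (S.ρ_ker q (S.le q hq)).2 hq, hj]
  simp

/-- The coset of the preimage of the image of `dlt`. -/
noncomputable def preL (j : ℕ) : Set G := {w | w ∈ piU S ∧ S.π w ∈ Set.range (dlt j)}

theorem card_preL {j : ℕ} (hj : j < 16) (h0 : j ≠ 0) : (preL S j).ncard = 32 := by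
  classical
  let L : AddSubgroup Vec :=
    { carrier := Set.range (dlt j)
      zero_mem' := ⟨0, by simp [dlt, (semi_eP _).map_zero]⟩
      add_mem' := by rintro _ _ ⟨a, rfl⟩ ⟨b, rfl⟩; exact ⟨a + b, dlt_add j a b⟩
      neg_mem' := by
        rintro _ ⟨a, rfl⟩
        refine ⟨a, funext fun i => ?_⟩
        have key : ∀ x : K4, x = -x := by decide +kernel
        exact key _ }
  let X : Subgroup G :=
    { carrier := preL S j
      one_mem' := ⟨one_mem _, by rw [S.π_one]; exact L.zero_mem⟩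
      mul_mem' := by
        rintro a b ⟨ha, ha'⟩ ⟨hb, hb'⟩
        exact ⟨mul_mem ha hb, by rw [S.π_mul a ha.1 b hb.1]; exact L.add_mem ha' hb'⟩
      inv_mem' := by
        rintro a ⟨ha, ha'⟩
        exact ⟨inv_mem ha, by rw [S.π_inv ha.1]; exact ha'⟩ }
  have hle : X ≤ Q := fun w hw => hw.1.1
  have he : S.piImage X hle = L := by
    ext v
    constructor
    · rintro ⟨w, hw, rfl⟩; exact hw.2
    · intro hv
      obtain ⟨w, hw, rfl⟩ := S.π_surj v
      obtain ⟨u, hu⟩ := hv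
      exact ⟨w, ⟨⟨hw, hu ▸ dlt_mem_U hj h0 u⟩, u, hu⟩, rfl⟩
  have h := S.card_piImage X hle ⟨z_mem_piU S, by rw [S.π_z]; exact L.zero_mem⟩
  rw [he, show Nat.card L = 16 from (Nat.card_coe_set_eq _).trans (card_range_dlt hj h0)] at h
  rw [← Nat.card_coe_set_eq]
  exact h

theorem card_ker_dlt {j : ℕ} (hj : j < 16) (h0 : j ≠ 0) :
    {v | dlt j v = 0}.ncard = 256 := by
  let f : Vec →+ Vec := AddMonoidHom.mk' (dlt j) (dlt_add j)
  have h := AddSubgroup.card_mul_index f.ker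
  rw [AddSubgroup.index_ker, card_vec',
    show Nat.card f.range = 16 from (Nat.card_coe_set_eq _).trans (card_range_dlt hj h0)] at h
  rw [← Nat.card_coe_set_eq, show ({v | dlt j v = 0} : Set Vec) = (f.ker : Set Vec) from rfl,
    SetLike.coe_sort_coe]
  omega

theorem orbQ_card_facts {x : G} (hx : x ∈ Aelem S) (hQ : x ∉ Q) :
    (orbQ Q x).ncard ∣ 32 ∧ 16 ≤ (orbQ Q x).ncard ∧
      ((orbQ Q x).ncard = 16 → x * z ∉ orbQ Q x) := by
  classical
  obtain ⟨j, hj, hρ⟩ := exists_idx S hx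
  have h0 := idx_ne_zero S hx hQ hρ
  set X := Q ⊓ Subgroup.centralizer ({x} : Set G) with hX
  have hzX : z ∈ X := ⟨S.hzQ, Subgroup.mem_centralizer_singleton_iff.2 (A_z S hx).symm⟩
  have hsub : ∀ q ∈ X, dlt j (S.π q) = 0 := fun q hq => by
    rw [← (comm_pi S hq.1 hx hρ).2,
      mul_inv_eq_iff_eq_mul.2 (Subgroup.mem_centralizer_singleton_iff.1 hq.2), A_sq S hx, S.π_one]
  have h1 := card_orbQ (Q := Q) x
  rw [S.card_Q, show (2 : ℕ) ^ 13 = 8192 by norm_num, ← hX] at h1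
  have h2 := S.card_piImage X inf_le_left hzX
  have h3 : Nat.card (S.piImage X inf_le_left) ≤ 256 := by
    rw [← card_ker_dlt hj h0]
    exact le_of_eq_of_le (Nat.card_coe_set_eq _).symm.symm (Set.ncard_le_ncard
      (fun v ⟨q, hq, e⟩ => e ▸ hsub q hq) (Set.toFinite _))
  have h16 : 16 ≤ (orbQ Q x).ncard := by
    by_contra hlt
    have := Nat.mul_le_mul (show (orbQ Q x).ncard ≤ 15 by omega) (h2.le.trans (Nat.mul_le_mul le_rfl h3))
    omega
  have h32 : (orbQ Q x).ncard ≤ 32 := by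
    rw [← card_preL S hj h0]
    exact Set.ncard_le_ncard_of_injOn (fun v => x * v)
      (fun v hv => ⟨(orbQ_sub S hx hρ hv).2.1, (orbQ_sub S hx hρ hv).2.2.1⟩)
      (mul_right_injective x).injOn (Set.toFinite _)
  obtain ⟨k, hk, hkc⟩ := (Nat.dvd_prime_pow Nat.prime_two).1 (show _ ∣ 2 ^ 13 from Dvd.intro _ (h1.trans (by norm_num)))
  refine ⟨?_, h16, fun he hxz => ?_⟩
  · rw [hkc] at h32 ⊢
    exact Nat.pow_dvd_pow 2 (show k ≤ 5 by
      by_contra hcon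
      have := Nat.pow_le_pow_right (show 1 ≤ 2 by norm_num) (show 6 ≤ k by omega)
      omega)
  rw [he] at h1
  have hK : (S.piImage X inf_le_left : Set Vec) = {v | dlt j v = 0} :=
    Set.eq_of_subset_of_ncard_le (fun v ⟨q, hq, e⟩ => e ▸ hsub q hq)
      (by rw [card_ker_dlt hj h0, ← Nat.card_coe_set_eq, SetLike.coe_sort_coe]; omega) (Set.toFinite _)
  obtain ⟨q, hq, e⟩ := hxz
  have hd : dlt j (S.π q) = 0 := by
    rw [← (comm_pi S hq hx hρ).2, show q * x * q⁻¹ = x * z from e, ← mul_assoc, A_sq S hx, one_mul,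
      S.π_z]
  obtain ⟨r, hr, er⟩ : S.π q ∈ (S.piImage X inf_le_left : Set Vec) := hK ▸ hd
  have hrx := Subgroup.mem_centralizer_singleton_iff.1 hr.2
  have hqx : q * x = x * q := by
    rcases S.π_eq hr.1 hq er with e' | e'
    · rw [e']; exact hrx
    · rw [e', mul_assoc, hrx, ← mul_assoc, ← A_z S hx, mul_assoc]
  have : x = x * z := by
    conv_lhs => rw [← mul_inv_cancel_right x q, ← hqx]
    exact e
  exact S.z_ne (mul_eq_left.1 this.symm)

/-! ### The two kinds of elements -/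

/-- Not conjugate to the central involution. -/
def Nc (z : G) : Set G := {a | a ≠ 1 ∧ ¬IsConj z a}

theorem Nc_conj {a : G} (ha : a ∈ Nc z) (c : G) : c * a * c⁻¹ ∈ Nc z := by
  refine ⟨fun h => ha.1 ?_, fun h => ha.2 (h.trans (isConj_iff.2 ⟨c⁻¹, by group⟩))⟩
  have : a = c⁻¹ * (c * a * c⁻¹) * c := by group
  rw [this, h]; group

include hp in
theorem conj_iff_cls {a : G} (ha : a ∈ piU S) (h1 : a ≠ 1) (hz : a ≠ z) :
    (IsConj z a ↔ cls (S.π a) = 3) ∧ (a ∈ Nc z ↔ cls (S.π a) = 2) := by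
  have key : IsConj z a ↔ cls (S.π a) = 3 := by
    constructor
    · intro h
      obtain ⟨y, hy⟩ := isConj_iff.1 h
      have hp' : H92.PairSetting Q z y :=
        ⟨hp.extra, hp.hcen, hp.hnorm, hp.hz, hp.hz1, hy ▸ ha.1, hy ▸ hz, hp.hcard⟩
      have := S.cls_eq_three hp'
      rwa [hy] at this
    · intro h
      obtain ⟨c, -, ec⟩ := S.conj_of_cls hp.hs ha.1
        (by rw [h, S.cls_eq_three hp]) (Or.inr (S.cls_eq_three hp))
      refine isConj_iff.2 ⟨c * g, ?_⟩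
      rw [← ec]; group
  refine ⟨key, ?_⟩
  have h0 : cls (S.π a) ≠ 0 := fun e => by
    rcases (S.π_zero a ha.1).1 ((facts _).2.1.1 e) with e' | e'
    exacts [h1 e', hz e']
  have h13 : cls (S.π a) ≠ 1 := U_herm ha.2
  have h3 := (facts (S.π a)).2.2
  show a ≠ 1 ∧ ¬IsConj z a ↔ _
  rw [key]
  constructor
  · rintro ⟨-, h⟩; omega
  · intro h; exact ⟨h1, by omega⟩

include hp in
theorem Nc_piU_iff {a : G} (ha : a ∈ piU S) :
    a ∈ Nc z ↔ ∃ i < 6, ∃ c : K4, c ≠ 0 ∧ S.π a = c • rV i := by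
  by_cases h1 : a = 1
  · subst h1
    refine iff_of_false (fun h => h.1 rfl) fun ⟨i, hi, c, hc, e⟩ => ?_
    rw [S.π_one, eq_comm, smul_eq_zero] at e
    exact e.elim hc (rV_ne_zero hi)
  by_cases hz : a = z
  · subst hz
    refine iff_of_false (fun h => h.2 (IsConj.refl _)) fun ⟨i, hi, c, hc, e⟩ => ?_
    rw [S.π_z, eq_comm, smul_eq_zero] at e
    exact e.elim hc (rV_ne_zero hi)
  rw [(conj_iff_cls S hp ha h1 hz).2]
  exact ⟨fun h => U_cls2 ha.2 h, fun ⟨i, hi, c, hc, e⟩ => e ▸ cls_smul hi hc⟩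

/-- The non-conjugates over the `j`-th involution. -/
def fib (j : ℕ) : Set G := {a | a ∈ Aelem S ∧ a ∈ Nc z ∧ S.ρ a = eP (bIdx j)}

theorem fib_orbit {j : ℕ} {x : G} (hx : x ∈ fib S j) : orbQ Q x ⊆ fib S j := by
  intro v hv
  have h := orbQ_sub S hx.1 hx.2.2 hv
  obtain ⟨q, -, rfl⟩ := hv
  exact ⟨h.1, Nc_conj hx.2.1 q, h.2.2.2⟩

theorem sixteen_dvd_fib {j : ℕ} (hj : j < 16) (h0 : j ≠ 0) : 16 ∣ (fib S j).ncard := by
  classical
  let inst := Fintype.ofFinite G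
  have hd : ∀ x ∈ fib S j, 16 ∣ (orbQ Q x).ncard := by
    intro x hx
    have hQ : x ∉ Q := fun h => h0 (idx_unique hj (by norm_num)
      (hx.2.2.symm.trans ((ρ_A_zero S hx.1).2 h)))
    obtain ⟨h1, h2, -⟩ := orbQ_card_facts S hx.1 hQ
    obtain ⟨k, -, hk⟩ := (Nat.dvd_prime_pow Nat.prime_two).1 (show _ ∣ 2 ^ 5 from h1)
    rw [hk] at h2 ⊢
    exact Nat.pow_dvd_pow 2 (show 4 ≤ k by
      by_contra hcon
      have := Nat.pow_le_pow_right (show 1 ≤ 2 by norm_num) (show k ≤ 3 by omega)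
      omega)
  rw [Set.ncard_eq_toFinset_card' (fib S j), Finset.card_eq_sum_card_fiberwise
    (f := fun x : G => orbQ Q x) (t := (fib S j).toFinset.image fun x => orbQ Q x)
    fun x hx => Finset.mem_image_of_mem _ hx]
  refine Finset.dvd_sum fun c hc => ?_
  obtain ⟨x, hx, rfl⟩ := Finset.mem_image.1 hc
  have hx' := Set.mem_toFinset.1 hx
  have he : (fib S j).toFinset.filter (fun y => orbQ Q y = orbQ Q x) = (orbQ Q x).toFinset := by
    ext y
    simp only [Finset.mem_filter, Set.mem_toFinset]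
    exact ⟨fun h => h.2 ▸ mem_orbQ_self y, fun h => ⟨fib_orbit S hx' h, orbQ_eq h⟩⟩
  rw [he, ← Set.ncard_eq_toFinset_card']
  exact hd x hx'

theorem fib_le {j : ℕ} : (fib S j).ncard ≤ 128 := by
  by_cases h : (fib S j).Nonempty
  · obtain ⟨x, hx⟩ := h
    rw [show 128 = (piU S : Set G).ncard by
      rw [← Nat.card_coe_set_eq, SetLike.coe_sort_coe, card_piU]; norm_num]
    refine Set.ncard_le_ncard_of_injOn (fun v => x * v) (fun v hv => ?_)
      (mul_right_injective x).injOn (Set.toFinite _)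
    refine (piU_iff S (mul_mem hx.1 hv.1)).2 ((S.ρ_ker _ (S.z_comm_mul (A_z S hx.1) (A_z S hv.1))).1 ?_)
    rw [S.ρ_mul _ _ (A_z S hx.1) (A_z S hv.1), hx.2.2, hv.2.2, ← hx.2.2,
      ← S.ρ_mul _ _ (A_z S hx.1) (A_z S hx.1), A_sq S hx.1, S.ρ_one]
  · rw [Set.not_nonempty_iff_eq_empty.1 h]; simp

include hp in
theorem fib_zero : (fib S 0).ncard = 36 := by
  classical
  have hl : ∀ p : Fin 6 × {c : K4 // c ≠ 0}, ∃ a ∈ piU S, S.π a = p.2.1 • rV p.1 := fun p => by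
    obtain ⟨a, ha, e⟩ := S.π_surj (p.2.1 • rV p.1)
    exact ⟨a, ⟨ha, e ▸ smul_U _ (rV_mem p.1.2)⟩, e⟩
  choose f hf hfπ using hl
  let F : (Fin 6 × {c : K4 // c ≠ 0}) × Bool → G := fun p => if p.2 then z * f p.1 else f p.1
  have hF : ∀ p, F p ∈ piU S ∧ S.π (F p) = p.1.2.1 • rV p.1.1 := fun p => by
    simp only [F]
    split_ifs
    · exact ⟨mul_mem (z_mem_piU S) (hf _), by rw [S.π_zmul (hf _).1, hfπ]⟩
    · exact ⟨hf _, hfπ _⟩
  have hinj : Function.Injective F := by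
    rintro ⟨⟨i, c⟩, a⟩ ⟨⟨k, d⟩, b⟩ e
    have e' : c.1 • rV i = d.1 • rV k := by
      have := congrArg S.π e
      rwa [(hF _).2, (hF _).2] at this
    have hik : i = k := Fin.ext (line_eq i.2 k.2 c.2 d.2 e')
    subst hik
    have hcd : c.1 = d.1 := by
      have h0 : (c.1 - d.1) • rV (i : ℕ) = 0 := by rw [sub_smul, e', sub_self]
      rw [smul_eq_zero] at h0
      exact sub_eq_zero.1 (h0.resolve_right (rV_ne_zero i.2))
    have hcd' : c = d := Subtype.ext hcd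
    subst hcd'
    cases a <;> cases b <;> simp [F] at e ⊢
    all_goals exact S.z_ne (by first | exact e | exact e.symm)
  have himg : fib S 0 = Set.range F := by
    ext a
    constructor
    · rintro ⟨hA, hN, hρ⟩
      have ha := (piU_iff S hA).2 ((ρ_A_zero S hA).1 hρ)
      obtain ⟨i, hi, c, hc, e⟩ := (Nc_piU_iff S hp ha).1 hN
      rcases S.π_eq (hf (⟨i, hi⟩, ⟨c, hc⟩)).1 ha.1 ((hfπ _).trans e.symm) with h | h
      · exact ⟨((⟨i, hi⟩, ⟨c, hc⟩), false), h.symm⟩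
      · exact ⟨((⟨i, hi⟩, ⟨c, hc⟩), true), h.symm⟩
    · rintro ⟨p, rfl⟩
      have hA := piU_le_A S (hF p).1
      exact ⟨hA, (Nc_piU_iff S hp (hF p).1).2 ⟨_, p.1.1.2, _, p.1.2.2, (hF p).2⟩,
        (ρ_A_zero S hA).2 (hF p).1.1⟩
  rw [himg, Set.ncard_range_of_injective hinj, Nat.card_prod, Nat.card_prod, Nat.card_fin,
    Nat.card_eq_fintype_card, Nat.card_eq_fintype_card, Fintype.card_bool]
  have : Fintype.card {c : K4 // c ≠ 0} = 3 := by decide +kernel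
  rw [this]

theorem sum_fib (P : ℕ → Prop) [DecidablePred P] :
    {a | a ∈ Aelem S ∧ a ∈ Nc z ∧ ∃ j < 16, P j ∧ S.ρ a = eP (bIdx j)}.ncard =
      ∑ j ∈ (Finset.range 16).filter P, (fib S j).ncard := by
  classical
  rw [← Finset.sum_coe_sort]
  have he : {a | a ∈ Aelem S ∧ a ∈ Nc z ∧ ∃ j < 16, P j ∧ S.ρ a = eP (bIdx j)} =
      ⋃ j ∈ ((Finset.range 16).filter P : Finset ℕ), fib S j := by
    ext a
    simp only [Set.mem_ofPred_eq, Set.mem_iUnion, Finset.mem_filter, Finset.mem_range, fib,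
      exists_prop]
    constructor
    · rintro ⟨h1, h2, j, hj, hP, e⟩; exact ⟨j, ⟨hj, hP⟩, h1, h2, e⟩
    · rintro ⟨j, ⟨hj, hP⟩, h1, h2, e⟩; exact ⟨h1, h2, j, hj, hP, e⟩
  rw [he, Finset.sum_coe_sort ((Finset.range 16).filter P) (fun j => (fib S j).ncard)]
  refine ((Finset.finite_toSet _).ncard_biUnion (fun j _ => Set.toFinite _) ?_).trans
    (finsum_mem_coe_finset _ _)
  intro i hi k hk hne
  rw [Function.onFun, Set.disjoint_left]
  intro a hai hak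
  simp only [Finset.coe_filter, Finset.mem_range, Set.mem_ofPred_eq] at hi hk
  exact hne (idx_unique hi.1 hk.1 (hai.2.2.symm.trans hak.2.2))

end Cfsg.Agent.H61.Todd
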