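import Cfsg.Agent.H61.Todd.Cosets

/-!
Each coset holds exactly sixteen non-conjugates of the central involution, forming one orbit of
the core.
-/

set_option autoImplicit false
set_option maxRecDepth 20000

namespace Cfsg.Agent.H61.Todd

open Cfsg Cfsg.Agent.Compute Cfsg.Agent.Unitary Cfsg.Agent.H41.SUSix Cfsg.Agent.H41.LFi
  Cfsg.Agent.H43.LFi Matrix

attribute [local irreducible] mC sigC bIdx wApC mulVecC wP eP uC

variable {G : Type*} [Group G] [Finite G] {z g : G} {Q : Subgroup G} (S : LSetup z Q)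
  (hp : H92.PairSetting Q z g)

noncomputable instance instCommA : CommGroup ↥(Aelem S) :=
  { (inferInstance : Group ↥(Aelem S)) with
    mul_comm := fun a b => Subtype.ext (comm_of_mem S a.2 b.2) }

/-- The normaliser. -/
abbrev Mgrp : Subgroup G := Subgroup.normalizer (Aelem S : Set G)

/-- Its action. -/
noncomputable def gam : ↥(Mgrp S) →* MulAut ↥(Aelem S) := (Aelem S).normalizerMonoidHom

/-- The induced group. -/
noncomputable def Gam : Subgroup (MulAut ↥(Aelem S)) := (gam S).range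

theorem gam_apply (m : ↥(Mgrp S)) (a : ↥(Aelem S)) :
    ((gam S m a : ↥(Aelem S)) : G) = (m : G) * a * (m : G)⁻¹ := rfl

theorem conj_mem_M {m a : G} (hm : m ∈ Mgrp S) (ha : a ∈ Aelem S) : m * a * m⁻¹ ∈ Aelem S :=
  (Subgroup.mem_normalizer_iff.1 hm a).1 ha

/-! ### Lifts of the normalising elements -/

theorem exists_lift {l : ℕ} (hl : l < 5) :
    ∃ c : G, c ∈ Mgrp S ∧ c * z = z * c ∧ ∀ j < 16, ∀ a ∈ Aelem S, S.ρ a = eP (bIdx j) →
      S.ρ (c * a * c⁻¹) = eP (bIdx (sigC l j)) := by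
  obtain ⟨c, hc, ec⟩ := S.ρ_surj _ (nP_mem l)
  refine ⟨c, mem_normalizer_A S hc (fun u hu => ec ▸ nP_U hl hu) ?_, hc, fun j hj a ha e => ?_⟩
  · rintro _ ⟨i, hi, rfl⟩
    rw [ec, nP_B hl hi, mul_inv_cancel_right]
    exact ⟨_, sig_lt l i, rfl⟩
  · have haz := A_z S ha
    rw [S.ρ_mul _ _ (S.z_comm_mul hc haz) (S.z_comm_inv hc), S.ρ_mul _ _ hc haz, S.ρ_inv hc, e, ec,
      nP_B hl hj, mul_inv_cancel_right]

theorem lift_back {l j : ℕ} (hj : j < 16) {c : G} (hM : c ∈ Mgrp S) (hz : c * z = z * c)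
    (hc : ∀ j < 16, ∀ a ∈ Aelem S, S.ρ a = eP (bIdx j) →
      S.ρ (c * a * c⁻¹) = eP (bIdx (sigC l j)))
    {a : G} (ha : a ∈ Aelem S) (e : S.ρ a = eP (bIdx (sigC l j))) :
    c⁻¹ * a * c ∈ Aelem S ∧ S.ρ (c⁻¹ * a * c) = eP (bIdx j) := by
  have hci : c⁻¹ * a * c ∈ Aelem S := by
    have := conj_mem_M S (inv_mem hM) ha
    rwa [inv_inv] at this
  obtain ⟨i, hi, hρ⟩ := exists_idx S hci
  refine ⟨hci, ?_⟩
  rw [hρ]
  have h1 := hc i hi _ hci hρ
  rw [show c * (c⁻¹ * a * c) * c⁻¹ = a by group, e] at h1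
  -- compare with a lift of the `j`-th involution
  obtain ⟨b, hb, hbρ⟩ := A_lift S (eP_bIdx_mem hj)
  have h2 := hc j hj b hb hbρ
  have hcc : S.ρ (c * (c⁻¹ * a * c) * c⁻¹) = S.ρ (c * b * c⁻¹) := by
    rw [show c * (c⁻¹ * a * c) * c⁻¹ = a by group, e, h2]
  rw [S.ρ_mul _ _ (S.z_comm_mul hz (A_z S hci)) (S.z_comm_inv hz), S.ρ_mul _ _ hz (A_z S hci),
    S.ρ_mul _ _ (S.z_comm_mul hz (A_z S hb)) (S.z_comm_inv hz), S.ρ_mul _ _ hz (A_z S hb),
    mul_left_inj, mul_right_inj, hρ, hbρ] at hcc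
  exact hcc

theorem fib_sig {l j : ℕ} (hl : l < 5) (hj : j < 16) :
    (fib S (sigC l j)).ncard = (fib S j).ncard := by
  obtain ⟨c, hM, hz, hc⟩ := exists_lift S hl
  refine le_antisymm ?_ ?_
  · refine Set.ncard_le_ncard_of_injOn (fun a => c⁻¹ * a * c) (fun a ha => ?_)
      (fun a _ b _ e => mul_left_cancel (mul_right_cancel e)) (Set.toFinite _)
    obtain ⟨h1, h2⟩ := lift_back S hj hM hz hc ha.1 ha.2.2
    refine ⟨h1, ?_, h2⟩
    have := Nc_conj ha.2.1 c⁻¹
    rwa [inv_inv] at this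
  · exact Set.ncard_le_ncard_of_injOn (fun a => c * a * c⁻¹)
      (fun a ha => ⟨conj_mem_M S hM ha.1, Nc_conj ha.2.1 c, hc j hj a ha.1 ha.2.2⟩)
      (fun a _ b _ e => mul_left_cancel (mul_right_cancel e)) (Set.toFinite _)

theorem fib_const : ∀ j < 16, j ≠ 0 → (fib S j).ncard = (fib S 1).ncard :=
  sig_const (fun j => (fib S j).ncard) fun l hl j hj => fib_sig S hl hj

/-! ### Counting -/

/-- The non-conjugates of the central involution, in the subgroup. -/
def Nset : Set ↥(Aelem S) := {a | (a : G) ∈ Nc z}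

/-- The conjugates of the central involution, in the subgroup. -/
def Zset : Set ↥(Aelem S) := {a | IsConj z (a : G)}

theorem Nset_eq : Nat.card (Nset S) =
    {a | a ∈ Aelem S ∧ a ∈ Nc z ∧ ∃ j < 16, True ∧ S.ρ a = eP (bIdx j)}.ncard := by
  rw [Nat.card_coe_set_eq, ← Set.ncard_image_of_injective (Nset S) Subtype.val_injective]
  congr 1
  ext a
  constructor
  · rintro ⟨⟨a, ha⟩, h, rfl⟩
    obtain ⟨j, hj, e⟩ := exists_idx S ha
    exact ⟨ha, h, j, hj, trivial, e⟩
  · rintro ⟨ha, h, -⟩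
    exact ⟨⟨a, ha⟩, h, rfl⟩

include hp in
theorem card_Nset : (Nset S).ncard = 36 + 15 * (fib S 1).ncard := by
  classical
  rw [← Nat.card_coe_set_eq, Nset_eq, sum_fib S (fun _ => True),
    Finset.filter_true_of_mem (fun _ _ => trivial), Finset.sum_range_succ', fib_zero S hp,
    Finset.sum_congr rfl (g := fun _ => (fib S 1).ncard) (fun j hj =>
      fib_const S (j + 1) (by have := Finset.mem_range.1 hj; omega) (by omega)),
    Finset.sum_const, Finset.card_range, smul_eq_mul]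
  omega

theorem card_Zset : (Zset S).ncard = 2047 - (Nset S).ncard := by
  have hd : Disjoint (Zset S) (Nset S) := Set.disjoint_left.2 fun a h h' => h'.2 h
  have h1 : (Zset S ∪ Nset S)ᶜ = {(1 : ↥(Aelem S))} := by
    ext a
    simp only [Set.mem_compl_iff, Set.mem_union, Set.mem_singleton_iff, not_or]
    constructor
    · rintro ⟨h, h'⟩
      by_contra ha
      exact h' ⟨fun e => ha (Subtype.ext e), h⟩
    · rintro rfl
      refine ⟨fun h => S.z_ne ?_, fun h => h.1 rfl⟩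
      obtain ⟨c, hc⟩ := isConj_iff.1 h
      calc z = c⁻¹ * (c * z * c⁻¹) * c := by group
        _ = 1 := by rw [hc]; simp
  have h2 := Set.ncard_add_ncard_compl (Zset S ∪ Nset S)
  rw [h1, Set.ncard_singleton, Set.ncard_union_eq hd (Set.toFinite _) (Set.toFinite _),
    H43.LFi.card_A] at h2
  omega

/-- The central involution as an element of the subgroup. -/
noncomputable def zA : ↥(Aelem S) := ⟨z, z_mem_A S⟩

theorem Gam_conj {f : MulAut ↥(Aelem S)} (hf : f ∈ Gam S) :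
    ∃ m ∈ Mgrp S, ∀ a : ↥(Aelem S), ((f a : ↥(Aelem S)) : G) = m * a * m⁻¹ := by
  obtain ⟨m, rfl⟩ := hf
  exact ⟨m, m.2, fun a => rfl⟩

theorem Gam_Nset {f : MulAut ↥(Aelem S)} (hf : f ∈ Gam S) {a : ↥(Aelem S)} (ha : a ∈ Nset S) :
    f a ∈ Nset S := by
  obtain ⟨m, -, e⟩ := Gam_conj S hf
  show ((f a : ↥(Aelem S)) : G) ∈ Nc z
  rw [e]
  exact Nc_conj ha m

include hp in
theorem Zset_trans {a : ↥(Aelem S)} (ha : a ∈ Zset S) : ∃ f ∈ Gam S, f (zA S) = a := by
  obtain ⟨c, hc⟩ := isConj_iff.1 (show IsConj z (a : G) from ha)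
  obtain ⟨m, hm, e⟩ := fusion S hp (z_mem_A S) (y := c) (hc ▸ a.2)
  exact ⟨gam S ⟨m, hm⟩, ⟨_, rfl⟩, Subtype.ext (e.trans hc)⟩

include hp in
theorem Zset_dvd : (Zset S).ncard ∣ Nat.card (Gam S) := by
  have horb : MulAction.orbit ↥(Gam S) (zA S) = Zset S := by
    ext a
    constructor
    · rintro ⟨f, rfl⟩
      obtain ⟨m, -, e⟩ := Gam_conj S f.2
      exact isConj_iff.2 ⟨m, (e (zA S)).symm⟩
    · intro ha
      obtain ⟨f, hf, rfl⟩ := Zset_trans S hp ha
      exact ⟨⟨f, hf⟩, rfl⟩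
  rw [← horb, ← MulAction.index_stabilizer]
  exact Subgroup.index_dvd_card _

theorem bad_prime {p n : ℕ} (hp' : p.Prime) (hn : p ∣ n) (hd : n ∣ Nat.card (Gam S))
    (hbad : ∀ d < 11, ¬p ∣ 2048 - 2 ^ d) : False := by
  have := Fact.mk hp'
  obtain ⟨f, hf⟩ := exists_prime_orderOf_dvd_card' (G := ↥(Gam S)) p (hn.trans hd)
  obtain ⟨d, hd', -, h⟩ := fixedBy_card (f : MulAut ↥(Aelem S)) hp'
    (by rw [Subgroup.orderOf_coe, hf]) (by rw [H43.LFi.card_A]; norm_num)
  exact hbad d hd' h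

include hp in
theorem fib_one : (fib S 1).ncard = 16 := by
  obtain ⟨e, he⟩ := sixteen_dvd_fib S (show 1 < 16 by norm_num) one_ne_zero
  have hle : (fib S 1).ncard ≤ 128 := fib_le S
  have hZ := card_Zset S
  rw [card_Nset S hp, he] at hZ
  have hd := Zset_dvd S hp
  rw [hZ] at hd
  by_contra hne
  rw [he] at hle hne
  obtain rfl | rfl | rfl | rfl | rfl | rfl | rfl | rfl : e = 0 ∨ e = 2 ∨ e = 3 ∨ e = 4 ∨ e = 5 ∨
      e = 6 ∨ e = 7 ∨ e = 8 := by omega
  · exact bad_prime S (p := 2011) (by norm_num) (by norm_num) hd (by decide +kernel)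
  · exact bad_prime S (p := 1531) (by norm_num) (by norm_num) hd (by decide +kernel)
  · exact bad_prime S (p := 1291) (by norm_num) (by norm_num) hd (by decide +kernel)
  · exact bad_prime S (p := 1051) (by norm_num) (by norm_num) hd (by decide +kernel)
  · exact bad_prime S (p := 811) (by norm_num) (by norm_num) hd (by decide +kernel)
  · exact bad_prime S (p := 571) (by norm_num) (by norm_num) hd (by decide +kernel)
  · exact bad_prime S (p := 331) (by norm_num) (by norm_num) hd (by decide +kernel)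
  · exact bad_prime S (p := 13) (by norm_num) (by norm_num) hd (by decide +kernel)

include hp in
theorem card_N_eq : (Nset S).ncard = 276 ∧ (Zset S).ncard = 1771 := by
  have h := card_Nset S hp
  rw [fib_one S hp] at h
  exact ⟨h, by rw [card_Zset S, h]⟩

include hp in
theorem fib_card {j : ℕ} (hj : j < 16) (h0 : j ≠ 0) : (fib S j).ncard = 16 := by
  rw [fib_const S j hj h0, fib_one S hp]

include hp in
/-- One coset: the orbit, its translate, and their union. -/
theorem coset_facts {j : ℕ} (hj : j < 16) (h0 : j ≠ 0) {x : G} (hx : x ∈ fib S j) :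
    orbQ Q x = fib S j ∧ x * z ∉ Nc z ∧
    ∀ w ∈ piU S, (x * w ∈ Nc z ∨ x * w * z ∈ Nc z) ↔ S.π w ∈ Set.range (dlt j) := by
  have hQ : x ∉ Q := fun h => h0 (idx_unique hj (by norm_num)
    (hx.2.2.symm.trans ((ρ_A_zero S hx.1).2 h)))
  obtain ⟨-, h16, hnot⟩ := orbQ_card_facts S hx.1 hQ
  have heq : orbQ Q x = fib S j := Set.eq_of_subset_of_ncard_le (fib_orbit S hx)
    (by rw [fib_card S hp hj h0]; exact h16) (Set.toFinite _)
  have hcard : (orbQ Q x).ncard = 16 := by rw [heq, fib_card S hp hj h0]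
  have hxz : ∀ v ∈ fib S j, v * z ∉ Nc z := by
    intro v hv h
    obtain ⟨-, h16', hnot'⟩ := orbQ_card_facts S hv.1 (fun h => h0 (idx_unique hj (by norm_num)
      (hv.2.2.symm.trans ((ρ_A_zero S hv.1).2 h))))
    have heq' : orbQ Q v = fib S j := (orbQ_eq (heq ▸ hv)).trans heq
    refine hnot' (by rw [heq', fib_card S hp hj h0]) ?_
    rw [heq']
    exact ⟨mul_mem hv.1 (z_mem_A S), h, by rw [ρ_mul_piU S hv.1 (z_mem_piU S)]; exact hv.2.2⟩
  refine ⟨heq, hxz x hx, fun w hw => ?_⟩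
  have hxwA : x * w ∈ Aelem S := mul_mem hx.1 (piU_le_A S hw)
  have hρ : S.ρ (x * w) = eP (bIdx j) := by rw [ρ_mul_piU S hx.1 hw]; exact hx.2.2
  constructor
  · rintro (h | h)
    · have := orbQ_sub S hx.1 hx.2.2 ((Set.ext_iff.1 heq _).2 (⟨hxwA, h, hρ⟩ : x * w ∈ fib S j))
      have h2 := this.2.2.1
      rwa [← mul_assoc, A_sq S hx.1, one_mul] at h2
    · have hwz : w * z ∈ piU S := mul_mem hw (z_mem_piU S)
      rw [mul_assoc] at h
      have := orbQ_sub S hx.1 hx.2.2 ((Set.ext_iff.1 heq _).2 (⟨mul_mem hx.1 (piU_le_A S hwz), h,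
        by rw [ρ_mul_piU S hx.1 hwz]; exact hx.2.2⟩ : x * (w * z) ∈ fib S j))
      have h2 := this.2.2.1
      rw [← mul_assoc x x, A_sq S hx.1, one_mul, S.π_mul w hw.1 z S.hzQ, S.π_z, add_zero] at h2
      exact h2
  · intro hL
    set T := (fun v => x * v) '' preL S j
    have hsub : fib S j ∪ (fun v => v * z) '' fib S j ⊆ T := by
      rintro v (hv | ⟨v, hv, rfl⟩)
      · obtain ⟨-, h1, h2, -⟩ := orbQ_sub S hx.1 hx.2.2 (heq.symm ▸ hv)
        exact ⟨x * v, ⟨h1, h2⟩, by show x * (x * v) = v; rw [← mul_assoc, A_sq S hx.1, one_mul]⟩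
      · obtain ⟨-, h1, h2, -⟩ := orbQ_sub S hx.1 hx.2.2 (heq.symm ▸ hv)
        refine ⟨x * v * z, ⟨mul_mem h1 (z_mem_piU S), ?_⟩, by
          show x * (x * v * z) = v * z
          rw [← mul_assoc, ← mul_assoc, A_sq S hx.1, one_mul]⟩
        rw [S.π_mul _ h1.1 z S.hzQ, S.π_z, add_zero]
        exact h2
    have hdis : Disjoint (fib S j) ((fun v => v * z) '' fib S j) := Set.disjoint_left.2 (by
      rintro v hv ⟨v', hv', rfl⟩
      exact hxz v' hv' hv.2.1)
    have hfull := Set.eq_of_subset_of_ncard_le hsub (by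
      rw [Set.ncard_image_of_injective _ (mul_right_injective x), card_preL S hj h0,
        Set.ncard_union_eq hdis (Set.toFinite _) (Set.toFinite _),
        Set.ncard_image_of_injective _ (mul_left_injective z), fib_card S hp hj h0]) (Set.toFinite _)
    rcases (Set.ext_iff.1 hfull _).2 (⟨w, ⟨hw, hL⟩, rfl⟩ : x * w ∈ T) with h | ⟨v, hv, e⟩
    · exact Or.inl h.2.1
    · refine Or.inr ?_
      rw [← show v * z = x * w from e, mul_assoc, S.z_sq, mul_one]
      exact hv.2.1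

end Cfsg.Agent.H61.Todd
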