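import Cfsg.Agent.H61.Todd.Basic

/-!
The graph on `N`: valency 44, and every edge lies in a clique of size 23 without product triples.
-/

set_option autoImplicit false

namespace Cfsg.Agent.H61.Todd

variable {V : Type*} [CommGroup V] [Finite V]

/-- The stabiliser of a point in a group of automorphisms. -/
def St (H : Subgroup (MulAut V)) (t : V) : Subgroup (MulAut V) :=
  H ⊓ MulAction.stabilizer (MulAut V) t

omit [Finite V] in
theorem mem_St {H : Subgroup (MulAut V)} {t : V} {g : MulAut V} :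
    g ∈ St H t ↔ g ∈ H ∧ g t = t := Iff.rfl

omit [Finite V] in
theorem card_St (H : Subgroup (MulAut V)) (t : V) (S : Set V) (hS : ∀ g ∈ H, g t ∈ S)
    (hsurj : ∀ v ∈ S, ∃ g ∈ H, g t = v) : S.ncard * Nat.card (St H t) = Nat.card H := by
  have horb : MulAction.orbit ↥H t = S := by
    ext v
    constructor
    · rintro ⟨g, rfl⟩
      exact hS g g.2
    · intro hv
      obtain ⟨g, hg, rfl⟩ := hsurj v hv
      exact ⟨⟨g, hg⟩, rfl⟩
  let e : ↥(MulAction.stabilizer ↥H t) ≃ ↥(St H t) :=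
    { toFun := fun g => ⟨g.1.1, g.1.2, g.2⟩
      invFun := fun g => ⟨⟨g.1, g.2.1⟩, g.2.2⟩
      left_inv := fun g => rfl
      right_inv := fun g => rfl }
  rw [← Nat.card_congr e, ← horb, ← MulAction.index_stabilizer, Subgroup.index_mul_card]

theorem exists_order (H : Subgroup (MulAut V)) {p : ℕ} [Fact p.Prime] (h : p ∣ Nat.card H) :
    ∃ g ∈ H, orderOf g = p := by
  obtain ⟨g, hg⟩ := exists_prime_orderOf_dvd_card' (G := ↥H) p h
  exact ⟨g, g.2, by rwa [Subgroup.orderOf_coe]⟩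

namespace Data

variable {Γ : Subgroup (MulAut V)} (D : Data Γ)
include D

theorem exists_base : ∃ t ∈ D.W, t ∈ D.N := by
  by_contra h
  have hsub : (D.P 0 : Set V) ⊆ {1, D.z} := fun v hv => by
    by_contra hne
    simp only [Set.mem_insert_iff, Set.mem_singleton_iff, not_or] at hne
    exact h ⟨v, D.P_W 0 hv, D.N_of_block hv hne.1 hne.2⟩
  have h2 := Set.ncard_le_ncard hsub (Set.toFinite _)
  rw [← Nat.card_coe_set_eq, SetLike.coe_sort_coe, D.card_P,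
    Set.ncard_pair D.z_ne.symm] at h2
  omega

theorem card_St_point {t : V} (ht : t ∈ D.N) : 276 * Nat.card (St Γ t) = Nat.card Γ := by
  rw [← D.card_N]
  exact card_St Γ t D.N (fun g hg => D.inv g hg t ht) (fun v hv => D.trans t ht v hv)

theorem outer_maps {q : MulAut V} (hq : q ∈ D.Qb) {v : V} (hv : v ∉ D.W) : q v ∉ D.W := fun h =>
  hv ((D.mem_W_mul_iff h).1 (D.Qb_coset q hq v))

theorem sep_one {t : V} (htW : t ∈ D.W) (ht : t ∈ D.N) : ∃ q ∈ D.Qb, q t = t * D.z := by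
  obtain ⟨q, hq, -, h⟩ := D.sep 1 D.W.one_mem t htW (D.ne_one_of_N ht) (D.ne_z_of_N ht)
    (D.ne_one_of_N ht) (by rw [one_mul]; exact D.ne_z_of_N ht)
  exact ⟨q, hq, h⟩

theorem outer_card {t : V} (htW : t ∈ D.W) (ht : t ∈ D.N) :
    {x | x ∈ D.Nb t ∧ x ∉ D.W}.ncard = 40 := by
  obtain ⟨q, hq, hqt⟩ := D.sep_one htW ht
  set S := {x | x ∈ D.N ∧ x ∉ D.W ∧ (t * x ∈ D.N ∨ t * D.z * x ∈ D.N)} with hS
  have hΓ := D.Qb_le hq
  have h1 : ∀ x, t * x ∈ D.N → t * D.z * q x ∈ D.N := fun x h => by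
    have := D.inv q hΓ _ h
    rwa [map_mul, hqt] at this
  have h2 : ∀ x, t * D.z * x ∈ D.N → t * q x ∈ D.N := fun x h => by
    have := D.inv q hΓ _ h
    rwa [map_mul, map_mul, hqt, D.Qb_z q hq, mul_assoc t, D.sq, mul_one] at this
  have h := D.half (S := S) q (fun x hx => ⟨D.inv q hΓ x hx.1, D.outer_maps hq hx.2.1,
      hx.2.2.elim (fun a => Or.inr (h1 x a)) (fun a => Or.inl (h2 x a))⟩)
    (fun x => t * x ∈ D.N) (fun x => t * D.z * x ∈ D.N) (fun x hx => hx.2.2)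
    (fun x hx a b => D.lift_or htW hx.2.1 ⟨a, b⟩) (fun x _ => h1 x) (fun x _ => h2 x)
  rw [D.five t htW ht] at h
  have he : {x | x ∈ S ∧ t * x ∈ D.N} = {x | x ∈ D.Nb t ∧ x ∉ D.W} := by
    ext x
    exact ⟨fun h => ⟨⟨h.1.1, h.2⟩, h.1.2.1⟩, fun h => ⟨⟨h.1.1, h.2, Or.inl h.1.2⟩, h.1.2⟩⟩
  rw [he] at h
  omega

theorem inner_eq {t : V} {i : Fin 6} (hti : t ∈ D.P i) (ht : t ∈ D.N) :
    {x | x ∈ D.Nb t ∧ x ∈ D.W} = (D.P i : Set V) \ {1, D.z, t, t * D.z} := by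
  ext v
  simp only [Set.mem_ofPred_eq, Set.mem_sdiff, SetLike.mem_coe, Set.mem_insert_iff,
    Set.mem_singleton_iff, not_or]
  constructor
  · rintro ⟨hv, hvW⟩
    obtain ⟨k, hk⟩ := D.exists_block hvW hv.1
    by_cases hik : i = k
    · subst hik
      refine ⟨hk, D.ne_one_of_N hv.1, D.ne_z_of_N hv.1, D.ne_of_Nb hv, ?_⟩
      rintro rfl
      exact D.z_N (by simpa only [D.cancel] using hv.2)
    · exact absurd hv.2 (D.cross i k hik t hti v hk ht hv.1)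
  · rintro ⟨hk, h1, hz, hne, hnz⟩
    refine ⟨⟨D.N_of_block hk h1 hz, D.N_of_block ((D.P i).mul_mem hti hk) (fun e => ?_) ?_⟩,
      D.P_W i hk⟩
    · exact hne (D.eq_of_mul_eq_one e)
    · intro e
      exact hnz (by rw [← e, D.cancel])

theorem inner_card {t : V} (htW : t ∈ D.W) (ht : t ∈ D.N) :
    {x | x ∈ D.Nb t ∧ x ∈ D.W}.ncard = 4 := by
  obtain ⟨i, hi⟩ := D.exists_block htW ht
  rw [D.inner_eq hi ht, Set.ncard_sdiff ?_, ← Nat.card_coe_set_eq, SetLike.coe_sort_coe, D.card_P,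
    Set.ncard_insert_of_notMem, Set.ncard_insert_of_notMem, Set.ncard_pair (D.ne_mul_z t)]
  · simp only [Set.mem_insert_iff, Set.mem_singleton_iff, not_or]
    exact ⟨(D.ne_z_of_N ht).symm, fun e => D.ne_one_of_N ht (mul_eq_right.1 e.symm)⟩
  · simp only [Set.mem_insert_iff, Set.mem_singleton_iff, not_or]
    exact ⟨D.z_ne.symm, (D.ne_one_of_N ht).symm, (D.ne_one_of_N (D.mul_z_N htW ht)).symm⟩
  · intro v hv
    rcases hv with rfl | rfl | rfl | rfl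
    exacts [one_mem _, D.z_P i, hi, (D.P i).mul_mem hi (D.z_P i)]

theorem split_W (S : Set V) :
    {x | x ∈ S ∧ x ∈ D.W}.ncard + {x | x ∈ S ∧ x ∉ D.W}.ncard = S.ncard :=
  Set.ncard_inter_add_ncard_sdiff_eq_ncard S (D.W : Set V) (Set.toFinite _)

theorem Nb_card₀ {t : V} (htW : t ∈ D.W) (ht : t ∈ D.N) : (D.Nb t).ncard = 44 := by
  rw [← D.split_W, D.inner_card htW ht, D.outer_card htW ht]

/-- The set of neighbours in one coset. -/
theorem card_coset_Nb {t x : V} (htW : t ∈ D.W) (ht : t ∈ D.N) (hx : x ∈ D.Nb t)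
    (hxW : x ∉ D.W) : {y | y ∈ D.Nb t ∧ x * y ∈ D.W}.ncard = 8 := by
  obtain ⟨q, hq, hqt⟩ := D.sep_one htW ht
  have hΓ := D.Qb_le hq
  set S := {y | y ∈ D.N ∧ x * y ∈ D.W} with hS
  have hor : ∀ y ∈ S, t * y ∈ D.N ∨ t * D.z * y ∈ D.N := by
    rintro y ⟨hy, hxy⟩
    obtain ⟨p, hp, rfl⟩ := D.orbit x hx.1 hxW y hy hxy
    have := D.inv p (D.Qb_le hp) _ hx.2
    rw [map_mul] at this
    rcases D.Qb_W p hp t htW with h | h <;> rw [h] at this
    exacts [Or.inl this, Or.inr this]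
  have hSW : ∀ y ∈ S, y ∉ D.W := fun y hy hyW => hxW ((D.W.mul_mem_cancel_right hyW).1 hy.2)
  have h := D.half (S := S) q (fun y hy => ⟨D.inv q hΓ y hy.1, by
      have := D.W.mul_mem (D.Qb_coset q hq y) hy.2
      rwa [mul_comm x y, mul_assoc, D.cancel, mul_comm] at this⟩)
    (fun y => t * y ∈ D.N) (fun y => t * D.z * y ∈ D.N) hor
    (fun y hy a b => D.lift_or htW (hSW y hy) ⟨a, b⟩)
    (fun y _ h => by have := D.inv q hΓ _ h; rwa [map_mul, hqt] at this)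
    (fun y _ h => by
      have := D.inv q hΓ _ h
      rwa [map_mul, map_mul, hqt, D.Qb_z q hq, mul_assoc t, D.sq, mul_one] at this)
  rw [D.card_fiber hx.1 hxW] at h
  have he : {y | y ∈ S ∧ t * y ∈ D.N} = {y | y ∈ D.Nb t ∧ x * y ∈ D.W} := by
    ext y
    exact ⟨fun h => ⟨⟨h.1.1, h.2⟩, h.1.2⟩, fun h => ⟨⟨h.1.1, h.2⟩, h.1.2⟩⟩
  rw [he] at h
  omega

theorem eleven {t : V} (ht : t ∈ D.N) :
    ∃ g ∈ St Γ t, g ^ 11 = 1 ∧ ∀ v, g v = v → v = 1 ∨ v = t := by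
  have := Fact.mk (by norm_num : Nat.Prime 11)
  have hdvd : 11 ∣ Nat.card (St Γ t) := by
    have h : 11 ∣ 276 * Nat.card (St Γ t) := by
      rw [D.card_St_point ht]
      exact (show 11 ∣ 27202560 by norm_num).trans D.card_dvd
    exact (Nat.Coprime.dvd_mul_left (by norm_num)).1 h
  obtain ⟨g, hg, ho⟩ := exists_order _ hdvd
  refine ⟨g, hg, ho ▸ pow_orderOf_eq_one g, fun v hv => ?_⟩
  obtain ⟨d, hd, hc, h11⟩ := fixedBy_card g (Fact.out : Nat.Prime 11) ho D.card_V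
  have hd1 : d = 1 := by interval_cases d <;> omega
  subst hd1
  by_contra hne
  simp only [not_or] at hne
  have hsub : ({1, t, v} : Set V) ⊆ fixedBy g := by
    rintro w (rfl | rfl | rfl)
    exacts [one_mem _, hg.2, hv]
  have h := Set.ncard_le_ncard hsub (Set.toFinite _)
  rw [← Nat.card_coe_set_eq (fixedBy g : Set V), SetLike.coe_sort_coe, hc, Set.ncard_insert_of_notMem,
    Set.ncard_pair (Ne.symm hne.2)] at h
  · omega
  · simp only [Set.mem_insert_iff, Set.mem_singleton_iff, not_or]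
    exact ⟨(D.ne_one_of_N ht).symm, Ne.symm hne.1⟩

theorem Nb_trans₀ {t : V} (htW : t ∈ D.W) (ht : t ∈ D.N) {u v : V} (hu : u ∈ D.Nb t)
    (hv : v ∈ D.Nb t) : ∃ g ∈ St Γ t, g u = v := by
  set S := {v | ∃ g ∈ St Γ t, g u = v} with hS
  have hinv : ∀ g ∈ St Γ t, ∀ v ∈ S, g v ∈ S := by
    rintro g hg v ⟨k, hk, rfl⟩
    exact ⟨g * k, mul_mem hg hk, rfl⟩
  have hsub : S ⊆ D.Nb t := by
    rintro v ⟨k, hk, rfl⟩
    have := (D.Nb_map hk.1 t u).2 hu
    rwa [(mem_St.1 hk).2] at this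
  obtain ⟨g, hg, hg11, hfix⟩ := D.eleven ht
  have h11 : 11 ∣ S.ncard := dvd_ncard_of_auto g (by norm_num) hg11 S (hinv g hg) fun w hw hgw =>
    (hfix w hgw).elim (D.ne_one_of_N (hsub hw).1) (D.ne_of_Nb (hsub hw))
  have heven : 2 ∣ {x | x ∈ S ∧ x ∈ D.W}.ncard := by
    refine two_dvd_ncard_of_translate D.z D.z_ne (D.sq _) _ ?_
    rintro w ⟨hw, hwW⟩
    refine ⟨?_, D.W.mul_mem hwW D.z_W⟩
    obtain ⟨q, hq, hqt, hqw⟩ := D.sep t htW w hwW (D.ne_one_of_N (hsub hw).1)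
      (D.ne_z_of_N (hsub hw).1) (D.ne_of_Nb (hsub hw))
      (fun e => D.z_N (by have := (hsub hw).2; rwa [e, D.cancel] at this))
    exact hqw ▸ hinv q ⟨D.Qb_le hq, hqt⟩ w hw
  have h8 : 8 ∣ {x | x ∈ S ∧ x ∉ D.W}.ncard := by
    refine dvd_ncard_of_fibers D.W _ fun x hx => ?_
    rw [← D.card_coset_Nb htW ht (hsub hx.1) hx.2]
    congr 1
    ext y
    simp only [Set.mem_ofPred_eq, D.inv_eq]
    refine ⟨fun h => ⟨hsub h.1.1, h.2⟩, fun h => ⟨⟨?_, fun hyW => hx.2 ?_⟩, h.2⟩⟩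
    · obtain ⟨q, hq, rfl⟩ := D.orbit x (hsub hx.1).1 hx.2 y h.1.1 h.2
      refine hinv q ⟨D.Qb_le hq, ?_⟩ x hx.1
      rcases D.Qb_W q hq t htW with e | e
      · exact e
      · exfalso
        have h' := D.inv q (D.Qb_le hq) _ (hsub hx.1).2
        rw [map_mul, e] at h'
        exact D.lift_or htW (D.outer_maps hq hx.2) ⟨h.1.2, h'⟩
    · exact (D.W.mul_mem_cancel_right hyW).1 h.2
  have ha := Set.ncard_le_ncard (show {x | x ∈ S ∧ x ∈ D.W} ⊆ {x | x ∈ D.Nb t ∧ x ∈ D.W} from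
    fun x h => ⟨hsub h.1, h.2⟩) (Set.toFinite _)
  have hb := Set.ncard_le_ncard (show {x | x ∈ S ∧ x ∉ D.W} ⊆ {x | x ∈ D.Nb t ∧ x ∉ D.W} from
    fun x h => ⟨hsub h.1, h.2⟩) (Set.toFinite _)
  rw [D.inner_card htW ht] at ha
  rw [D.outer_card htW ht] at hb
  have hs := D.split_W S
  have hpos : 0 < S.ncard := (Set.ncard_pos (Set.toFinite _)).2 ⟨u, 1, one_mem _, rfl⟩
  have h44 : S.ncard = 44 := by omega
  have heq : S = D.Nb t := Set.eq_of_subset_of_ncard_le hsub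
    (by rw [h44, D.Nb_card₀ htW ht]) (Set.toFinite _)
  exact (Set.ext_iff.1 heq v).2 hv

theorem Com_inner {t u : V} (htW : t ∈ D.W) (ht : t ∈ D.N) (huW : u ∈ D.W) (hu : u ∈ D.Nb t) :
    {x | x ∈ D.Com t u ∧ x ∈ D.W} = {t * u * D.z} ∧
    {x | x ∈ D.Nb t ∧ x ∈ D.W} = {u, u * D.z, t * u, t * u * D.z} := by
  obtain ⟨i, hi⟩ := D.exists_block htW ht
  have huz : u * D.z ∈ D.Nb t := ⟨D.mul_z_N huW hu.1, by
    rw [← mul_assoc]; exact D.mul_z_N (D.W.mul_mem htW huW) hu.2⟩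
  have htu := D.mul_mem_Nb hu
  have htuz : t * u * D.z ∈ D.Nb t := by rw [mul_assoc]; exact D.mul_mem_Nb huz
  have hd1 : u ≠ t * u := D.ne_mul_z_of_N ht
  have hd2 : u ≠ t * u * D.z := fun e => D.ne_z_of_N ht (by
    have : t * u * D.z * u = 1 := by rw [← e, D.sq]
    rw [mul_right_comm, mul_assoc t u u, D.sq, mul_one] at this
    exact (D.eq_of_mul_eq_one this).symm)
  have hd3 : u * D.z ≠ t * u := fun e => D.ne_z_of_N ht (by
    rw [mul_comm t u] at e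
    exact (mul_left_cancel e).symm)
  have hset : {x | x ∈ D.Nb t ∧ x ∈ D.W} = {u, u * D.z, t * u, t * u * D.z} := by
    refine (Set.eq_of_subset_of_ncard_le ?_ ?_ (Set.toFinite _)).symm
    · rintro x (rfl | rfl | rfl | rfl)
      exacts [⟨hu, huW⟩, ⟨huz, D.W.mul_mem huW D.z_W⟩, ⟨htu, D.W.mul_mem htW huW⟩,
        ⟨htuz, D.W.mul_mem (D.W.mul_mem htW huW) D.z_W⟩]
    · rw [D.inner_card htW ht, Set.ncard_insert_of_notMem, Set.ncard_insert_of_notMem,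
        Set.ncard_pair (D.ne_mul_z _)]
      · simp only [Set.mem_insert_iff, Set.mem_singleton_iff, not_or]
        exact ⟨hd3, fun e => hd1 (mul_right_cancel e)⟩
      · simp only [Set.mem_insert_iff, Set.mem_singleton_iff, not_or]
        exact ⟨D.ne_mul_z u, hd1, hd2⟩
  refine ⟨?_, hset⟩
  ext x
  simp only [Set.mem_ofPred_eq, Set.mem_singleton_iff]
  constructor
  · rintro ⟨hx, hxW⟩
    have : x ∈ ({u, u * D.z, t * u, t * u * D.z} : Set V) := hset ▸ ⟨hx.1, hxW⟩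
    rcases this with rfl | rfl | rfl | rfl
    · exact absurd rfl (D.ne_of_Nb hx.2.1)
    · exact absurd (by simpa only [D.cancel] using hx.2.1.2) D.z_N
    · exact absurd rfl hx.2.2
    · rfl
  · rintro rfl
    refine ⟨⟨htuz, ⟨htuz.1, ?_⟩, (D.ne_mul_z _).symm⟩, D.W.mul_mem (D.W.mul_mem htW huW) D.z_W⟩
    rw [← mul_assoc, mul_comm t u, D.cancel]
    exact D.mul_z_N htW ht

theorem Com_card₀ {t u : V} (htW : t ∈ D.W) (ht : t ∈ D.N) (huW : u ∈ D.W) (hu : u ∈ D.Nb t) :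
    (D.Com t u).ncard = 21 := by
  obtain ⟨i, hi⟩ := D.exists_block htW ht
  have hui : u ∈ D.P i := ((Set.ext_iff.1 (D.inner_eq hi ht) u).1 ⟨hu, huW⟩).1
  obtain ⟨q, hq, hqt, hqu⟩ := D.sep t htW u huW (D.ne_one_of_N hu.1) (D.ne_z_of_N hu.1)
    (D.ne_of_Nb hu) (fun e => D.z_N (by have := hu.2; rwa [e, D.cancel] at this))
  have hΓ := D.Qb_le hq
  set S := {x | x ∈ D.Nb t ∧ x ∉ D.W} with hS
  have h := D.half (S := S) q (fun x hx => ⟨by
      have := (D.Nb_map hΓ t x).2 hx.1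
      rwa [hqt] at this, D.outer_maps hq hx.2⟩)
    (fun x => u * x ∈ D.N) (fun x => u * D.z * x ∈ D.N)
    (fun x hx => D.lift_block hi ht hui hx.1.1 hx.2 (Or.inl hx.1.2))
    (fun x hx a b => D.lift_or huW hx.2 ⟨a, b⟩)
    (fun x _ h => by have := D.inv q hΓ _ h; rwa [map_mul, hqu] at this)
    (fun x _ h => by
      have := D.inv q hΓ _ h
      rwa [map_mul, map_mul, hqu, D.Qb_z q hq, mul_assoc u, D.sq, mul_one] at this)
  rw [D.outer_card htW ht] at h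
  have he : {x | x ∈ S ∧ u * x ∈ D.N} = {x | x ∈ D.Com t u ∧ x ∉ D.W} := by
    ext x
    exact ⟨fun h => ⟨⟨h.1.1, ⟨h.1.1.1, h.2⟩, fun e => h.1.2 (e ▸ D.W.mul_mem htW huW)⟩, h.1.2⟩,
      fun h => ⟨⟨h.1.1, h.2⟩, h.1.2.1.2⟩⟩
  rw [he] at h
  have hs := D.split_W (D.Com t u)
  rw [(D.Com_inner htW ht huW hu).1, Set.ncard_singleton] at hs
  omega

/-- The property that exactly one of `v`, `t * v` is adjacent to `u`. -/
def One (t u v : V) : Prop := (u * v ∈ D.N ↔ t * u * v ∉ D.N)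

theorem One_map {g : MulAut V} (hg : g ∈ Γ) (t u v : V) :
    D.One (g t) (g u) (g v) ↔ D.One t u v := by
  show (g u * g v ∈ D.N ↔ g t * g u * g v ∉ D.N) ↔ _
  rw [← map_mul, ← map_mul, ← map_mul, D.inv' hg, D.inv' hg]
  rfl

theorem One_mul {t u v : V} (h : D.One t u v) : D.One t u (t * v) := by
  show u * (t * v) ∈ D.N ↔ t * u * (t * v) ∉ D.N
  rw [← mul_assoc, mul_comm u t, mul_assoc t u (t * v), mul_left_comm u t v, D.cancel]
  unfold One at h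
  tauto

theorem seven₀ {t u : V} (htW : t ∈ D.W) (ht : t ∈ D.N) (huW : u ∈ D.W) (hu : u ∈ D.Nb t) :
    ∃ g ∈ St (St Γ t) u, g ^ 7 = 1 ∧ ∀ v, g v = v → v = 1 ∨ v = t ∨ v = u ∨ v = t * u := by
  have := Fact.mk (by norm_num : Nat.Prime 7)
  have hdvd : 7 ∣ Nat.card (St (St Γ t) u) := by
    have h1 := card_St (St Γ t) u (D.Nb t)
      (fun g hg => by have := (D.Nb_map hg.1 t u).2 hu; rwa [(mem_St.1 hg).2] at this)
      (fun v hv => D.Nb_trans₀ htW ht hu hv)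
    rw [D.Nb_card₀ htW ht] at h1
    have h : 7 ∣ 276 * (44 * Nat.card (St (St Γ t) u)) := by
      rw [h1, D.card_St_point ht]
      exact (show 7 ∣ 27202560 by norm_num).trans D.card_dvd
    exact (Nat.Coprime.dvd_mul_left (by norm_num)).1 ((Nat.Coprime.dvd_mul_left (by norm_num)).1 h)
  obtain ⟨g, hg, ho⟩ := exists_order _ hdvd
  refine ⟨g, hg, ho ▸ pow_orderOf_eq_one g, fun v hv => ?_⟩
  have hgt : g t = t := hg.1.2
  have hgu : g u = u := hg.2
  obtain ⟨d, hd, hc, h7⟩ := fixedBy_card g (Fact.out : Nat.Prime 7) ho D.card_V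
  have hfour : ({1, t, u, t * u} : Set V).ncard = 4 := by
    rw [Set.ncard_insert_of_notMem, Set.ncard_insert_of_notMem, Set.ncard_pair (D.ne_mul_z_of_N ht)]
    · simp only [Set.mem_insert_iff, Set.mem_singleton_iff, not_or]
      exact ⟨(D.ne_of_Nb hu).symm, (D.ne_of_Nb (D.mul_mem_Nb hu)).symm⟩
    · simp only [Set.mem_insert_iff, Set.mem_singleton_iff, not_or]
      exact ⟨(D.ne_one_of_N ht).symm, (D.ne_one_of_N hu.1).symm, (D.ne_one_of_N hu.2).symm⟩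
  have hsub : ({1, t, u, t * u} : Set V) ⊆ fixedBy g := by
    rintro w (rfl | rfl | rfl | rfl)
    exacts [one_mem _, hgt, hgu, (fixedBy g).mul_mem hgt hgu]
  by_cases hd2 : d = 2
  · subst hd2
    have heq := Set.eq_of_subset_of_ncard_le hsub (by
      rw [hfour, ← Nat.card_coe_set_eq, SetLike.coe_sort_coe, hc]; norm_num) (Set.toFinite _)
    exact (Set.ext_iff.1 heq v).2 hv
  exfalso
  have h5 : 32 ≤ 2 ^ d := by interval_cases d <;> omega
  have hN : ∀ w, g w = w → w ≠ 1 → w ∈ D.N := fun w h h' =>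
    (D.seven g hg.1.1 ho w h).resolve_left h'
  have hCom : (fixedBy g : Set V) \ {1, t, u, t * u} ⊆ D.Com t u := by
    rintro w ⟨hw, hne⟩
    simp only [Set.mem_insert_iff, Set.mem_singleton_iff, not_or] at hne
    refine ⟨⟨hN w hw hne.1, hN _ ((fixedBy g).mul_mem hgt hw) fun e => hne.2.1 ?_⟩,
      ⟨hN w hw hne.1, hN _ ((fixedBy g).mul_mem hgu hw) fun e => hne.2.2.1 ?_⟩, hne.2.2.2⟩
    · exact D.eq_of_mul_eq_one e
    · exact D.eq_of_mul_eq_one e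
  have h := Set.ncard_le_ncard hCom (Set.toFinite _)
  rw [Set.ncard_sdiff hsub, hfour, ← Nat.card_coe_set_eq (fixedBy g : Set V),
    SetLike.coe_sort_coe, hc, D.Com_card₀ htW ht huW hu] at h
  omega

theorem line_facts₀ {t u : V} (htW : t ∈ D.W) (ht : t ∈ D.N) (huW : u ∈ D.W) (hu : u ∈ D.Nb t) :
    (∀ v ∈ D.Nb t, v ≠ u → v ≠ t * u → D.One t u v) ∧
    (∀ v ∈ D.Com t u, ∃ g ∈ St (St Γ t) u, g (t * u * D.z) = v) := by
  obtain ⟨i, hi⟩ := D.exists_block htW ht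
  have hui : u ∈ D.P i := ((Set.ext_iff.1 (D.inner_eq hi ht) u).1 ⟨hu, huW⟩).1
  obtain ⟨hin, hNbW⟩ := D.Com_inner htW ht huW hu
  have hv0 : t * u * D.z ∈ D.Com t u :=
    ((Set.ext_iff.1 hin _).2 (Set.mem_singleton _)).1
  set S0 := {v | ∃ g ∈ St (St Γ t) u, g (t * u * D.z) = v} with hS0
  have hS0Com : S0 ⊆ D.Com t u := by
    rintro v ⟨g, hg, rfl⟩
    have := (D.Com_map hg.1.1 t u _).2 hv0
    rwa [show g t = t from hg.1.2, show g u = u from hg.2] at this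
  set S := {v | v ∈ S0 ∨ t * v ∈ S0} with hS
  have hST : ∀ v ∈ S, t * v ∈ S := fun v hv => hv.elim (fun h => Or.inr (by rwa [D.cancel]))
    (fun h => Or.inl h)
  have hinv : ∀ g ∈ St (St Γ t) u, ∀ v ∈ S, g v ∈ S := by
    rintro g hg v (⟨k, hk, hkv⟩ | ⟨k, hk, hkv⟩)
    · exact Or.inl ⟨g * k, mul_mem hg hk, by rw [← hkv]; rfl⟩
    · refine Or.inr ⟨g * k, mul_mem hg hk, ?_⟩
      show g (k (t * u * D.z)) = t * g v
      rw [hkv, map_mul, show g t = t from hg.1.2]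
  set B := {v | v ∈ D.Nb t ∧ v ≠ u ∧ v ≠ t * u} with hB
  have hBcard : B.ncard = 42 := by
    have he : B = D.Nb t \ {u, t * u} := by
      ext v
      simp only [hB, Set.mem_ofPred_eq, Set.mem_sdiff, Set.mem_insert_iff,
        Set.mem_singleton_iff, not_or]
    rw [he, Set.ncard_sdiff ?_, Set.ncard_pair (D.ne_mul_z_of_N ht), D.Nb_card₀ htW ht]
    rintro v (rfl | rfl)
    exacts [hu, D.mul_mem_Nb hu]
  have hBt : ∀ v ∈ B, t * v ∈ B := by
    rintro v ⟨h1, h2, h3⟩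
    exact ⟨D.mul_mem_Nb h1, fun e => h3 (by rw [← e, D.cancel]), fun e => h2 (mul_left_cancel e)⟩
  have hComB : D.Com t u ⊆ B := fun v hv => ⟨hv.1, D.ne_of_Nb hv.2.1, hv.2.2⟩
  have hSB : S ⊆ B := by
    rintro v (h | h)
    · exact hComB (hS0Com h)
    · have := hBt _ (hComB (hS0Com h)); rwa [D.cancel] at this
  have hOne0 : D.One t u (t * u * D.z) := iff_of_true hv0.2.1.2
    (by rw [D.cancel]; exact D.z_N)
  have hOne : ∀ v ∈ S, D.One t u v := by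
    have hs : ∀ v ∈ S0, D.One t u v := by
      rintro v ⟨g, hg, rfl⟩
      have := (D.One_map hg.1.1 t u _).2 hOne0
      rwa [show g t = t from hg.1.2, show g u = u from hg.2] at this
    rintro v (h | h)
    · exact hs v h
    · have := D.One_mul (hs _ h); rwa [D.cancel] at this
  obtain ⟨g, hg, hg7, hfix⟩ := D.seven₀ htW ht huW hu
  have h7 : 7 ∣ S.ncard := dvd_ncard_of_auto g (by norm_num) hg7 S (hinv g hg) fun w hw hgw => by
    obtain ⟨h1, h2, h3⟩ := hSB hw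
    rcases hfix w hgw with e | e | e | e
    exacts [D.ne_one_of_N h1.1 e, D.ne_of_Nb h1 e, h2 e, h3 e]
  have h2 : 2 ∣ S.ncard := two_dvd_ncard_of_translate t (D.ne_one_of_N ht) (D.sq t) S fun v hv => by
    rw [mul_comm]; exact hST v hv
  have hW2 : {x | x ∈ S ∧ x ∈ D.W}.ncard = 2 := by
    have he : {x | x ∈ S ∧ x ∈ D.W} = {t * u * D.z, u * D.z} := by
      ext x
      simp only [Set.mem_ofPred_eq, Set.mem_insert_iff, Set.mem_singleton_iff]
      constructor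
      · rintro ⟨hx, hxW⟩
        have : x ∈ ({u, u * D.z, t * u, t * u * D.z} : Set V) := hNbW ▸ ⟨(hSB hx).1, hxW⟩
        rcases this with rfl | rfl | rfl | rfl
        exacts [absurd rfl (hSB hx).2.1, Or.inr rfl, absurd rfl (hSB hx).2.2, Or.inl rfl]
      · rintro (rfl | rfl)
        · exact ⟨Or.inl ⟨1, one_mem _, rfl⟩, D.W.mul_mem (D.W.mul_mem htW huW) D.z_W⟩
        · exact ⟨Or.inr ⟨1, one_mem _, by simp [mul_assoc]⟩, D.W.mul_mem huW D.z_W⟩
    rw [he, Set.ncard_pair fun e => D.ne_mul_z_of_N ht (mul_right_cancel e).symm]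
  have h8 : 8 ∣ {x | x ∈ S ∧ x ∉ D.W}.ncard := by
    refine dvd_ncard_of_fibers D.W _ fun x hx => ?_
    have hxB := hSB hx.1
    rw [← D.card_coset_Nb htW ht hxB.1 hx.2]
    congr 1
    ext y
    simp only [Set.mem_ofPred_eq, D.inv_eq]
    refine ⟨fun h => ⟨(hSB h.1.1).1, h.2⟩, fun ⟨hy, hxy⟩ => ?_⟩
    have hyW : y ∉ D.W := fun h => hx.2 ((D.W.mul_mem_cancel_right h).1 hxy)
    refine ⟨⟨?_, hyW⟩, hxy⟩
    -- the two lifts on the line of `x`
    obtain ⟨a, ha, haW, hay, hua, b, hb, hbW, hby, hub⟩ :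
        ∃ a ∈ S, a ∉ D.W ∧ a * y ∈ D.W ∧ u * a ∈ D.N ∧
          ∃ b ∈ S, b ∉ D.W ∧ b * y ∈ D.W ∧ u * b ∉ D.N := by
      have hxW' : t * x ∉ D.W := fun h => hx.2 ((D.mem_W_mul_iff htW).1 h)
      have hxy' : t * x * y ∈ D.W := by rw [mul_assoc]; exact D.W.mul_mem htW hxy
      have e : u * (t * x) = t * u * x := by rw [← mul_assoc, mul_comm u t]
      by_cases hux : u * x ∈ D.N
      · exact ⟨x, hx.1, hx.2, hxy, hux, _, hST x hx.1, hxW', hxy', e ▸ (hOne x hx.1).1 hux⟩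
      · refine ⟨_, hST x hx.1, hxW', hxy', e ▸ ?_, x, hx.1, hx.2, hxy, hux⟩
        by_contra h
        exact hux ((hOne x hx.1).2 h)
    have hfixt : ∀ {w : V}, w ∈ S → w ∉ D.W → ∀ q ∈ D.Qb, q w = y → q t = t := by
      intro w hw hwW q hq hqw
      rcases D.Qb_W q hq t htW with e | e
      · exact e
      · exfalso
        have h' := D.inv q (D.Qb_le hq) _ (hSB hw).1.2
        rw [map_mul, e, hqw] at h'
        exact D.lift_or htW hyW ⟨hy.2, h'⟩
    by_cases huy : u * y ∈ D.N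
    · obtain ⟨q, hq, hqa⟩ := D.orbit a (hSB ha).1.1 haW y hy.1 hay
      refine hqa ▸ hinv q ⟨⟨D.Qb_le hq, hfixt ha haW q hq hqa⟩, ?_⟩ a ha
      rcases D.Qb_W q hq u huW with e | e
      · exact e
      · exfalso
        have h' := D.inv q (D.Qb_le hq) _ hua
        rw [map_mul, e, hqa] at h'
        exact D.lift_or huW hyW ⟨huy, h'⟩
    · obtain ⟨q, hq, hqb⟩ := D.orbit b (hSB hb).1.1 hbW y hy.1 hby
      refine hqb ▸ hinv q ⟨⟨D.Qb_le hq, hfixt hb hbW q hq hqb⟩, ?_⟩ b hb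
      rcases D.Qb_W q hq u huW with e | e
      · exact e
      · exfalso
        have hubz := (D.lift_block hi ht hui (hSB hb).1.1 hbW (Or.inl (hSB hb).1.2)).resolve_left hub
        have h' := D.inv q (D.Qb_le hq) _ hubz
        rw [map_mul, map_mul, e, D.Qb_z q hq, hqb, mul_assoc u, D.sq, mul_one] at h'
        exact huy h'
  have hle := Set.ncard_le_ncard hSB (Set.toFinite _)
  rw [hBcard] at hle
  have hs := D.split_W S
  rw [hW2] at hs
  have heq : S = B := Set.eq_of_subset_of_ncard_le hSB (by omega) (Set.toFinite _)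
  refine ⟨fun v hv h1 h2 => hOne v ((Set.ext_iff.1 heq v).2 ⟨hv, h1, h2⟩), fun v hv => ?_⟩
  rcases (Set.ext_iff.1 heq v).2 (hComB hv) with h | h
  · exact h
  · exfalso
    have hn : t * u * v ∉ D.N := (hOne v (Or.inr h)).1 hv.2.1.2
    have := (hS0Com h).2.1.2
    rw [← mul_assoc, mul_comm u t] at this
    exact hn this

theorem clique₀ {t u : V} (htW : t ∈ D.W) (ht : t ∈ D.N) (huW : u ∈ D.W) (hu : u ∈ D.Nb t) :
    ∀ a ∈ D.Com t u, ∀ b ∈ D.Com t u, a ≠ b → a * b ∈ D.N := by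
  obtain ⟨hOne, htr⟩ := D.line_facts₀ htW ht huW hu
  obtain ⟨i, hi⟩ := D.exists_block htW ht
  have hui : u ∈ D.P i := ((Set.ext_iff.1 (D.inner_eq hi ht) u).1 ⟨hu, huW⟩).1
  obtain ⟨hin, -⟩ := D.Com_inner htW ht huW hu
  have h0 : ∀ b ∈ D.Com t u, b ≠ t * u * D.z → t * u * D.z * b ∈ D.N := by
    intro b hb hne
    have hbW : b ∉ D.W := fun h => hne ((Set.ext_iff.1 hin b).1 ⟨hb, h⟩)
    exact (D.lift_block hi ht ((D.P i).mul_mem hi hui) hb.1.1 hbW (Or.inl hb.1.2)).resolve_left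
      ((hOne b hb.1 (D.ne_of_Nb hb.2.1) hb.2.2).1 hb.2.1.2)
  intro a ha b hb hab
  obtain ⟨g, hg, rfl⟩ := htr a ha
  have hg' := inv_mem hg
  have hb' := (D.Com_map hg'.1.1 t u b).2 hb
  rw [show g⁻¹ t = t from hg'.1.2, show g⁻¹ u = u from hg'.2] at hb'
  have hne : g⁻¹ b ≠ t * u * D.z := fun e => hab (by
    rw [← e, ← MulAut.mul_apply, mul_inv_cancel, MulAut.one_apply])
  have := D.inv g hg.1.1 _ (h0 _ hb' hne)
  rwa [map_mul g, ← MulAut.mul_apply, mul_inv_cancel, MulAut.one_apply] at this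

/-- Everything needed from an edge. -/
theorem edge {t u : V} (ht : t ∈ D.N) (hu : u ∈ D.Nb t) :
    (D.Nb t).ncard = 44 ∧ (D.Com t u).ncard = 21 ∧
    (∀ v ∈ D.Nb t, v ≠ u → v ≠ t * u → D.One t u v) ∧
    (∀ a ∈ D.Com t u, ∀ b ∈ D.Com t u, a ≠ b → a * b ∈ D.N) := by
  obtain ⟨t₀, htW, ht₀⟩ := D.exists_base
  obtain ⟨g, hg, hgt⟩ := D.trans t ht t₀ ht₀
  have hne : {x | x ∈ D.Nb t₀ ∧ x ∈ D.W}.Nonempty :=
    Set.nonempty_of_ncard_ne_zero (by rw [D.inner_card htW ht₀]; norm_num)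
  obtain ⟨u₀, hu₀, hu₀W⟩ := hne
  have hgu : g u ∈ D.Nb t₀ := hgt ▸ (D.Nb_map hg t u).2 hu
  obtain ⟨k, hk, hku⟩ := D.Nb_trans₀ htW ht₀ hgu hu₀
  set f := k * g with hf
  have hfΓ : f ∈ Γ := Γ.mul_mem hk.1 hg
  have hft : f t = t₀ := by
    show k (g t) = t₀
    rw [hgt]; exact hk.2
  have hfu : f u = u₀ := hku
  have hNb : f '' D.Nb t = D.Nb t₀ := by
    ext v
    constructor
    · rintro ⟨w, hw, rfl⟩
      exact hft ▸ (D.Nb_map hfΓ t w).2 hw
    · intro hv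
      refine ⟨f.symm v, ?_, f.apply_symm_apply v⟩
      rw [← D.Nb_map hfΓ, hft, f.apply_symm_apply]
      exact hv
  have hCom : f '' D.Com t u = D.Com t₀ u₀ := by
    ext v
    constructor
    · rintro ⟨w, hw, rfl⟩
      have := (D.Com_map hfΓ t u w).2 hw
      rwa [hft, hfu] at this
    · intro hv
      refine ⟨f.symm v, ?_, f.apply_symm_apply v⟩
      rw [← D.Com_map hfΓ, hft, hfu, f.apply_symm_apply]
      exact hv
  refine ⟨?_, ?_, fun v hv h1 h2 => ?_, fun a ha b hb hab => ?_⟩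
  · rw [← Set.ncard_image_of_injective _ f.injective, hNb, D.Nb_card₀ htW ht₀]
  · rw [← Set.ncard_image_of_injective _ f.injective, hCom, D.Com_card₀ htW ht₀ hu₀W hu₀]
  · rw [← D.One_map hfΓ, hft, hfu]
    refine (D.line_facts₀ htW ht₀ hu₀W hu₀).1 _ (hNb ▸ Set.mem_image_of_mem f hv) ?_ ?_
    · rw [← hfu]; exact f.injective.ne h1
    · rw [← hfu, ← hft, ← map_mul]; exact f.injective.ne h2
  · rw [← D.inv' hfΓ, map_mul]
    exact D.clique₀ htW ht₀ hu₀W hu₀ _ (hCom ▸ Set.mem_image_of_mem f ha) _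
      (hCom ▸ Set.mem_image_of_mem f hb) (f.injective.ne hab)

end Data

end Cfsg.Agent.H61.Todd
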