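import Cfsg.Agent.H61.Todd.Normalizer
import Cfsg.Agent.H61.Todd.Recognition

/-!
The local data of the abstract recognition, for the elementary abelian subgroup of order `2 ^ 11`.
-/

set_option autoImplicit false
set_option maxRecDepth 20000

namespace Cfsg.Agent.H61.Todd

open scoped Pointwise
open Cfsg Cfsg.Agent.Compute Cfsg.Agent.Unitary Cfsg.Agent.H41.SUSix Cfsg.Agent.H41.LFi
  Cfsg.Agent.H43.LFi Matrix

attribute [local irreducible] mC sigC bIdx wApC mulVecC wP eP uC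

variable {G : Type*} [Group G] [Finite G] {z g : G} {Q : Subgroup G} (S : LSetup z Q)
  (hp : H92.PairSetting Q z g)

/-- The core part, inside the elementary abelian subgroup. -/
noncomputable def WA : Subgroup ↥(Aelem S) where
  carrier := {v | (v : G) ∈ piU S}
  one_mem' := one_mem (piU S)
  mul_mem' := fun ha hb => (piU S).mul_mem ha hb
  inv_mem' := fun ha => (piU S).inv_mem ha

/-- The core elements over one of the six lines. -/
noncomputable def lineG (i : Fin 6) : Subgroup G where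
  carrier := {w | w ∈ piU S ∧ ∃ c : K4, S.π w = c • rV i}
  one_mem' := ⟨one_mem _, 0, by rw [S.π_one, zero_smul]⟩
  mul_mem' := by
    rintro a b ⟨ha, c, hc⟩ ⟨hb, d, hd⟩
    exact ⟨mul_mem ha hb, c + d, by rw [S.π_mul a ha.1 b hb.1, hc, hd, add_smul]⟩
  inv_mem' := by
    rintro a ⟨ha, c, hc⟩
    exact ⟨inv_mem ha, c, by rw [S.π_inv ha.1, hc]⟩

/-- The same, inside the elementary abelian subgroup. -/
noncomputable def PA (i : Fin 6) : Subgroup ↥(Aelem S) where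
  carrier := {v | (v : G) ∈ piU S ∧ ∃ c : K4, S.π (v : G) = c • rV i}
  one_mem' := (lineG S i).one_mem
  mul_mem' := fun ha hb => (lineG S i).mul_mem ha hb
  inv_mem' := fun ha => (lineG S i).inv_mem ha

/-- The action of the core. -/
noncomputable def QbA : Subgroup (MulAut ↥(Aelem S)) := (Q.subgroupOf (Mgrp S)).map (gam S)

theorem lineG_le (i : Fin 6) : lineG S i ≤ Aelem S := fun _ h => piU_le_A S h.1

theorem mem_PA {i : Fin 6} {v : ↥(Aelem S)} :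
    v ∈ PA S i ↔ (v : G) ∈ piU S ∧ ∃ c : K4, S.π (v : G) = c • rV i := Iff.rfl

theorem mem_WA {v : ↥(Aelem S)} : v ∈ WA S ↔ (v : G) ∈ piU S := Iff.rfl

theorem card_PA (i : Fin 6) : Nat.card (PA S i) = 8 := by
  rw [show PA S i = (lineG S i).subgroupOf (Aelem S) from rfl,
    Nat.card_congr (Subgroup.subgroupOfEquivOfLe (lineG_le S i)).toEquiv,
    S.card_piImage (lineG S i) (fun _ h => h.1.1)
      ⟨z_mem_piU S, 0, by rw [S.π_z, zero_smul]⟩]
  have he : (S.piImage (lineG S i) (fun _ h => h.1.1) : Set Vec) =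
      Set.range fun c : K4 => c • rV (i : ℕ) := by
    ext v
    constructor
    · rintro ⟨w, ⟨-, c, hc⟩, rfl⟩
      exact ⟨c, hc.symm⟩
    · rintro ⟨c, rfl⟩
      obtain ⟨w, hw, e⟩ := S.π_surj (c • rV (i : ℕ))
      exact ⟨w, ⟨⟨hw, e ▸ smul_U c (rV_mem i.2)⟩, c, e⟩, e⟩
  have h4 : Nat.card (S.piImage (lineG S i) (fun _ h => h.1.1)) = 4 := by
    rw [← SetLike.coe_sort_coe, Nat.card_coe_set_eq, he, Set.ncard_range_of_injective]
    · rw [Nat.card_eq_fintype_card]; decide +kernel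
    · intro c d e
      have h0 : (c - d) • rV (i : ℕ) = 0 := by rw [sub_smul, sub_eq_zero]; exact e
      rw [smul_eq_zero] at h0
      exact sub_eq_zero.1 (h0.resolve_right (rV_ne_zero i.2))
  rw [h4]

theorem PA_inter {i k : Fin 6} (h : i ≠ k) {v : ↥(Aelem S)} (hi : v ∈ PA S i) (hk : v ∈ PA S k) :
    v = 1 ∨ v = zA S := by
  obtain ⟨hv, c, hc⟩ := hi
  obtain ⟨-, d, hd⟩ := hk
  have h0 : S.π (v : G) = 0 := by
    by_cases hc0 : c = 0
    · rw [hc, hc0, zero_smul]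
    by_cases hd0 : d = 0
    · rw [hd, hd0, zero_smul]
    exact absurd (Fin.ext (line_eq i.2 k.2 hc0 hd0 (hc.symm.trans hd))) h
  rcases (S.π_zero _ hv.1).1 h0 with e | e
  · exact Or.inl (Subtype.ext e)
  · exact Or.inr (Subtype.ext e)

include hp in
theorem WA_Nset {v : ↥(Aelem S)} (hv : v ∈ WA S) :
    v ∈ Nset S ↔ (v ≠ 1 ∧ v ≠ zA S ∧ ∃ i, v ∈ PA S i) := by
  show (v : G) ∈ Nc z ↔ _
  rw [Nc_piU_iff S hp hv]
  constructor
  · rintro ⟨i, hi, c, hc, e⟩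
    refine ⟨fun h => ?_, fun h => ?_, ⟨i, hi⟩, hv, c, e⟩
    · rw [h] at e
      rw [show ((1 : ↥(Aelem S)) : G) = 1 from rfl, S.π_one, eq_comm, smul_eq_zero] at e
      exact e.elim hc (rV_ne_zero hi)
    · rw [h] at e
      rw [show ((zA S : ↥(Aelem S)) : G) = z from rfl, S.π_z, eq_comm, smul_eq_zero] at e
      exact e.elim hc (rV_ne_zero hi)
  · rintro ⟨h1, hz, i, -, c, e⟩
    refine ⟨i, i.2, c, fun hc => ?_, e⟩
    rw [hc, zero_smul] at e
    rcases (S.π_zero _ (show (v : G) ∈ Q from hv.1)).1 e with e' | e'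
    · exact h1 (Subtype.ext e')
    · exact hz (Subtype.ext e')

include hp in
theorem PA_cross {i k : Fin 6} (h : i ≠ k) {s t : ↥(Aelem S)} (hs : s ∈ PA S i) (ht : t ∈ PA S k)
    (hsN : s ∈ Nset S) (htN : t ∈ Nset S) : s * t ∉ Nset S := by
  obtain ⟨hs', c, hc⟩ := hs
  obtain ⟨ht', d, hd⟩ := ht
  have hc0 : c ≠ 0 := fun e => by
    rw [e, zero_smul] at hc
    rcases (S.π_zero _ hs'.1).1 hc with e' | e'
    · exact hsN.1 e'
    · exact hsN.2 (e'.symm ▸ IsConj.refl z)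
  have hd0 : d ≠ 0 := fun e => by
    rw [e, zero_smul] at hd
    rcases (S.π_zero _ ht'.1).1 hd with e' | e'
    · exact htN.1 e'
    · exact htN.2 (e'.symm ▸ IsConj.refl z)
  intro hN
  obtain ⟨l, hl, e, he, hπ⟩ := (Nc_piU_iff S hp (mul_mem hs' ht')).1 hN
  have h3 := cross i.2 k.2 (fun e' => h (Fin.ext e')) hc0 hd0
  rw [← hc, ← hd, ← S.π_mul _ hs'.1 _ ht'.1, hπ, cls_smul hl he] at h3
  exact absurd h3 (by norm_num)

theorem gam_Q {q : G} (hq : q ∈ Q) : gam S ⟨q, Q_le_normalizer S hq⟩ ∈ QbA S :=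
  ⟨⟨q, Q_le_normalizer S hq⟩, hq, rfl⟩

theorem QbA_conj {f : MulAut ↥(Aelem S)} (hf : f ∈ QbA S) :
    ∃ q ∈ Q, ∀ a : ↥(Aelem S), ((f a : ↥(Aelem S)) : G) = q * a * q⁻¹ := by
  obtain ⟨m, hm, rfl⟩ := hf
  exact ⟨m, hm, fun a => rfl⟩

theorem QbA_coset {f : MulAut ↥(Aelem S)} (hf : f ∈ QbA S) (v : ↥(Aelem S)) :
    f v * v ∈ WA S := by
  obtain ⟨q, hq, e⟩ := QbA_conj S hf
  obtain ⟨j, -, hj⟩ := exists_idx S v.2
  rw [mul_comm, mem_WA, Subgroup.coe_mul, e]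
  exact (comm_pi S hq v.2 hj).1

theorem QbA_W {f : MulAut ↥(Aelem S)} (hf : f ∈ QbA S) {w : ↥(Aelem S)} (hw : w ∈ WA S) :
    f w = w ∨ f w = w * zA S := by
  obtain ⟨q, hq, e⟩ := QbA_conj S hf
  have hz := S.le q hq
  have hπ : S.π (q * w * q⁻¹) = S.π (w : G) := by
    rw [S.ρ_π q hz _ hw.1, (S.ρ_ker q hz).2 hq]; rfl
  rcases S.π_eq hw.1 (S.norm q hz _ hw.1) hπ.symm with h | h
  · exact Or.inl (Subtype.ext ((e w).trans h))
  · refine Or.inr (Subtype.ext ((e w).trans (h.trans ?_)))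
    show z * (w : G) = (w : G) * z
    exact (S.le _ hw.1).symm

theorem sep_vec {a b : Vec} (hb : b ≠ 0) (hab : b ≠ a) : ∃ v, pol a v = 0 ∧ pol b v = 1 := by
  have key : ∀ x : ZMod 2, x = 0 ∨ x = 1 := by decide +kernel
  have hne : a + b ≠ 0 := fun e => hab (vec_eq_of_add e).symm
  obtain ⟨v, hv⟩ := pol_nondeg hb
  rcases key (pol a v) with h | h
  · exact ⟨v, h, hv⟩
  obtain ⟨w, hw⟩ := pol_nondeg hne
  rw [pol_add_left] at hw
  rcases key (pol a w) with h' | h'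
  · exact ⟨w, h', by rwa [h', zero_add] at hw⟩
  · have hbw : pol b w = 0 := by
      rcases key (pol b w) with h'' | h''
      · exact h''
      · rw [h', h''] at hw; exact absurd hw (by decide +kernel)
    exact ⟨v + w, by rw [pol_add_right, h, h']; rfl, by rw [pol_add_right, hv, hbw]; rfl⟩

theorem QbA_sep {s t : ↥(Aelem S)} (hs : s ∈ WA S) (ht : t ∈ WA S) (h1 : t ≠ 1) (hz : t ≠ zA S)
    (hts : t ≠ s) (htsz : t ≠ s * zA S) : ∃ f ∈ QbA S, f s = s ∧ f t = t * zA S := by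
  have hb : S.π (t : G) ≠ 0 := fun e => by
    rcases (S.π_zero _ ht.1).1 e with e' | e'
    · exact h1 (Subtype.ext e')
    · exact hz (Subtype.ext e')
  have hab : S.π (t : G) ≠ S.π (s : G) := fun e => by
    rcases S.π_eq hs.1 ht.1 e.symm with e' | e'
    · exact hts (Subtype.ext e')
    · exact htsz (Subtype.ext (e'.trans (S.le _ hs.1).symm))
  obtain ⟨v, hv0, hv1⟩ := sep_vec hb hab
  obtain ⟨q, hq, rfl⟩ := S.π_surj v
  refine ⟨_, gam_Q S hq, Subtype.ext ?_, Subtype.ext ?_⟩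
  · rw [gam_apply]
    show q * (s : G) * q⁻¹ = (s : G)
    rw [((S.comm_iff hs.1 hq).2 hv0).symm, mul_inv_cancel_right]
  · rw [gam_apply]
    show q * (t : G) * q⁻¹ = (t : G) * z
    have hc := S.comm _ ht.1 q hq
    rw [hv1] at hc
    simp only [H92.ExtraForm.zp, one_ne_zero, if_false] at hc
    rw [hc, mul_assoc (t : G) q z, S.le q hq, ← mul_assoc, mul_inv_cancel_right]

include hp in
theorem WA_coset {x : ↥(Aelem S)} (hx : x ∈ Nset S) (hxW : x ∉ WA S) :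
    ∃ i k, i ≠ k ∧ ∀ w ∈ WA S,
      (x * w ∈ Nset S ∨ x * w * zA S ∈ Nset S) ↔ w ∈ PA S i ⊔ PA S k := by
  obtain ⟨j, hj, hρ⟩ := exists_idx S x.2
  have h0 := idx_ne_zero S x.2 (fun h => hxW ((piU_iff S x.2).2 h)) hρ
  obtain ⟨-, -, hiff⟩ := coset_facts S hp hj h0 (x := (x : G)) ⟨x.2, hx, hρ⟩
  obtain ⟨hab, ha, hb, -, -, -⟩ := im_facts hj h0
  refine ⟨⟨lnA j, ha⟩, ⟨lnB j, hb⟩, fun e => hab (congrArg Fin.val e), fun w hw => ?_⟩
  refine (hiff w hw).trans ⟨?_, ?_⟩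
  · rintro ⟨v, hv⟩
    obtain ⟨c, d, e⟩ := range_dlt hj h0 v
    rw [hv] at e
    obtain ⟨u, huQ, hu⟩ := S.π_surj (c • rV (lnA j))
    have huU : u ∈ piU S := ⟨huQ, hu ▸ smul_U c (rV_mem ha)⟩
    let u' : ↥(Aelem S) := ⟨u, piU_le_A S huU⟩
    have hu2 : u' * w ∈ PA S ⟨lnB j, hb⟩ := by
      refine ⟨mul_mem huU hw, d, ?_⟩
      show S.π (u * (w : G)) = _
      rw [S.π_mul _ huQ _ hw.1, hu, e, ← add_assoc, vec_add_self, zero_add]
    refine Subgroup.mem_sup.2 ⟨u', ⟨huU, c, hu⟩, u' * w, hu2, ?_⟩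
    rw [← mul_assoc, show u' * u' = 1 from Subtype.ext (A_sq S u'.2), one_mul]
  · intro h
    obtain ⟨a, ⟨haU, c, hac⟩, b, ⟨hbU, d, hbd⟩, rfl⟩ := Subgroup.mem_sup.1 h
    refine ⟨_, (dlt_surj hj h0 c d).trans ?_⟩
    rw [Subgroup.coe_mul, S.π_mul _ haU.1 _ hbU.1, hac, hbd]

include hp in
theorem WA_orbit {x y : ↥(Aelem S)} (hx : x ∈ Nset S) (hxW : x ∉ WA S) (hy : y ∈ Nset S)
    (hxy : x * y ∈ WA S) : ∃ f ∈ QbA S, f x = y := by
  obtain ⟨j, hj, hρ⟩ := exists_idx S x.2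
  have h0 := idx_ne_zero S x.2 (fun h => hxW ((piU_iff S x.2).2 h)) hρ
  obtain ⟨heq, -, -⟩ := coset_facts S hp hj h0 (x := (x : G)) ⟨x.2, hx, hρ⟩
  have hy' : (y : G) = (x : G) * ((x : G) * (y : G)) := by rw [← mul_assoc, A_sq S x.2, one_mul]
  have hρy : S.ρ (y : G) = eP (bIdx j) := by
    rw [hy', ρ_mul_piU S x.2 (show (x : G) * (y : G) ∈ piU S from hxy)]; exact hρ
  obtain ⟨q, hq, e⟩ := (Set.ext_iff.1 heq (y : G)).2 ⟨y.2, hy, hρy⟩
  exact ⟨_, gam_Q S hq, Subtype.ext e⟩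

include hp in
theorem WA_five {t : ↥(Aelem S)} (ht : t ∈ WA S) (htN : t ∈ Nset S) :
    {x | x ∈ Nset S ∧ x ∉ WA S ∧ (t * x ∈ Nset S ∨ t * zA S * x ∈ Nset S)}.ncard = 80 := by
  classical
  obtain ⟨i, hi, c, hc, hπ⟩ := (Nc_piU_iff S hp ht).1 htN
  have hset : Subtype.val '' {x | x ∈ Nset S ∧ x ∉ WA S ∧
        (t * x ∈ Nset S ∨ t * zA S * x ∈ Nset S)} =
      {a | a ∈ Aelem S ∧ a ∈ Nc z ∧ ∃ j < 16, onLine i j = true ∧ S.ρ a = eP (bIdx j)} := by
    ext a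
    constructor
    · rintro ⟨x, ⟨hx, hxW, hor⟩, rfl⟩
      obtain ⟨j, hj, hρ⟩ := exists_idx S x.2
      have h0 := idx_ne_zero S x.2 (fun h => hxW ((piU_iff S x.2).2 h)) hρ
      refine ⟨x.2, hx, j, hj, ?_, hρ⟩
      obtain ⟨-, -, hiff⟩ := coset_facts S hp hj h0 (x := (x : G)) ⟨x.2, hx, hρ⟩
      refine (rep_range_iff hi hj h0 hc).1 (hπ ▸ (hiff t ht).1 ?_)
      show x * t ∈ Nset S ∨ x * t * zA S ∈ Nset S
      rwa [mul_comm x t, mul_right_comm t x]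
    · rintro ⟨ha, haN, j, hj, hon, hρ⟩
      have h0 : j ≠ 0 := fun e => by subst e; simp [onLine] at hon
      refine ⟨⟨a, ha⟩, ⟨haN, fun h => h0 (idx_unique hj (by norm_num)
        (hρ.symm.trans ((ρ_A_zero S ha).2 h.1))), ?_⟩, rfl⟩
      obtain ⟨-, -, hiff⟩ := coset_facts S hp hj h0 (x := a) ⟨ha, haN, hρ⟩
      have h := (hiff t ht).2 (hπ.symm ▸ (rep_range_iff hi hj h0 hc).2 hon)
      have h' : (⟨a, ha⟩ : ↥(Aelem S)) * t ∈ Nset S ∨ ⟨a, ha⟩ * t * zA S ∈ Nset S := h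
      rwa [mul_comm _ t, mul_right_comm t] at h'
  rw [← Set.ncard_image_of_injective _ Subtype.val_injective, hset,
    sum_fib S (fun j => onLine i j = true), Finset.sum_congr rfl (g := fun _ => 16) (fun j hj => by
      rw [Finset.mem_filter, Finset.mem_range] at hj
      exact fib_card S hp hj.1 (fun e => by
        have h := hj.2
        subst e
        simp [onLine] at h)),
    Finset.sum_const, card_onLine hi]
  rfl

include hp in
theorem WA_excl {x : ↥(Aelem S)} (hx : x ∈ Nset S) (hxW : x ∉ WA S) : x * zA S ∉ Nset S := by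
  obtain ⟨j, hj, hρ⟩ := exists_idx S x.2
  exact (coset_facts S hp hj (idx_ne_zero S x.2 (fun h => hxW ((piU_iff S x.2).2 h)) hρ)
    (x := (x : G)) ⟨x.2, hx, hρ⟩).2.1

include hp in
theorem Gam_trans {s t : ↥(Aelem S)} (hs : s ∈ Nset S) (ht : t ∈ Nset S) :
    ∃ f ∈ Gam S, f s = t := by
  obtain ⟨m, hm, e⟩ := N_trans S hp s.2 hs t.2 ht
  exact ⟨gam S ⟨m, hm⟩, ⟨_, rfl⟩, Subtype.ext e⟩

/-- The local data. -/
noncomputable def dataA : Data (Gam S) where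
  N := Nset S
  z := zA S
  W := WA S
  P := PA S
  Qb := QbA S
  sq := fun v => Subtype.ext (A_sq S v.2)
  card_V := by rw [H43.LFi.card_A]; norm_num
  card_N := (card_N_eq S hp).1
  one_N := fun h => h.1 rfl
  z_ne := fun e => S.z_ne (congrArg Subtype.val e)
  z_N := fun h => h.2 (IsConj.refl _)
  inv := fun _ hf _ hv => Gam_Nset S hf hv
  trans := fun _ hs _ ht => Gam_trans S hp hs ht
  card_dvd := card_Gam_dvd S hp
  seven := fun _ hf h7 _ hv => seven_free S hp hf h7 hv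
  card_P := card_PA S
  z_P := fun _ => ⟨z_mem_piU S, 0, by
    show S.π z = _
    rw [S.π_z, zero_smul]⟩
  P_W := fun _ _ h => h.1
  P_inter := fun _ _ h _ hi hk => PA_inter S h hi hk
  N_W := fun _ hv => WA_Nset S hp hv
  cross := fun _ _ h _ hs _ ht => PA_cross S hp h hs ht
  Qb_le := fun _ hf => by obtain ⟨m, -, rfl⟩ := hf; exact ⟨m, rfl⟩
  Qb_z := fun _ hf => by
    obtain ⟨q, hq, e⟩ := QbA_conj S hf
    refine Subtype.ext ((e _).trans ?_)
    show q * z * q⁻¹ = z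
    rw [S.le q hq, mul_inv_cancel_right]
  Qb_coset := fun _ hf v => QbA_coset S hf v
  Qb_W := fun _ hf _ hw => QbA_W S hf hw
  sep := fun _ hs _ ht h1 hz h2 h3 => QbA_sep S hs ht h1 hz h2 h3
  coset := fun _ hx hxW => WA_coset S hp hx hxW
  excl := fun _ hx hxW => WA_excl S hp hx hxW
  orbit := fun _ hx hxW _ hy hxy => WA_orbit S hp hx hxW hy hxy
  five := fun _ ht htN => WA_five S hp ht htN

include hp in
/-- The stabiliser of a non-conjugate is that of a pair of points. -/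
theorem recognise_A {t : ↥(Aelem S)} (ht : t ∈ Nset S) :
    ∃ Ψ : ↥(Gam S) ≃* ↥Cfsg.M24, ∀ f : ↥(Gam S), ((f : MulAut ↥(Aelem S)) t = t ↔
      ((Ψ f : ↥Cfsg.M24) : Equiv.Perm GolayPt) ∈
        MulAction.stabilizer (Equiv.Perm GolayPt) ({none, some 0} : Set GolayPt)) :=
  recognise_pair (dataA S hp) ht

end Cfsg.Agent.H61.Todd
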