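import Cfsg.Agent.H61.Todd.Model
import Cfsg.Agent.H43.LFi.Max

/-!
Large Fischer type: the elementary abelian subgroup of order `2 ^ 11` is self-centralising and is
the only one of its order in a Sylow 2-subgroup, so its normaliser controls fusion in it.
-/

set_option autoImplicit false
set_option maxRecDepth 20000

namespace Cfsg.Agent.H61.Todd

open Cfsg Cfsg.Agent.Compute Cfsg.Agent.Unitary Cfsg.Agent.H41.SUSix Cfsg.Agent.H41.LFi
  Cfsg.Agent.H43.LFi Matrix

attribute [local irreducible] mC sigC bIdx wApC mulVecC wP eP uC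

variable {G : Type*} [Group G] [Finite G] {z g : G} {Q : Subgroup G} (S : LSetup z Q)
  (hp : H92.PairSetting Q z g)

theorem comm_of_mem {a b : G} (ha : a ∈ Aelem S) (hb : b ∈ Aelem S) : a * b = b * a := by
  have e := A_sq S (mul_mem ha hb)
  have ea := inv_eq_of_mul_eq_one_right (A_sq S ha)
  have eb' := inv_eq_of_mul_eq_one_right (A_sq S hb)
  calc a * b = (a * b)⁻¹ := (inv_eq_of_mul_eq_one_right e).symm
    _ = b * a := by rw [_root_.mul_inv_rev, ea, eb']

theorem z_mem_A : z ∈ Aelem S := piU_le_A S (z_mem_piU S)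

theorem A_z {a : G} (ha : a ∈ Aelem S) : a * z = z * a := ((mem_Aelem S).1 ha).1.1

theorem k4_omega : (ω₄ * ω₄ : K4) ≠ ω₄ := by decide +kernel

include hp in
theorem mem_Kl_of_fix {c : G} (hc : c * z = z * c) (hU : ∀ u ∈ Uset, S.ρ c u = u) :
    S.ρ c ∈ Kl := by
  by_contra h
  have hs := semi_true_of_outer S hp hc h
  have h1 := hU _ (U_smul (rV_mem (show 0 < 6 by norm_num)))
  rw [hs.smul, hU _ (rV_mem (show 0 < 6 by norm_num))] at h1
  have e : (ω₄ * ω₄ + ω₄) • rV 0 = 0 := by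
    rw [add_smul, show (ω₄ * ω₄) • rV 0 = ω₄ • rV 0 from h1]
    exact vec_add_self _
  rw [smul_eq_zero] at e
  rcases e with e | e
  · exact absurd e (by decide +kernel)
  · exact rV_ne_zero (by norm_num) e

include hp in
theorem mem_B_of_fix' {c : G} (hc : c * z = z * c) (hU : ∀ u ∈ Uset, S.ρ c u = u) :
    S.ρ c ∈ Bgrp := mem_B_of_fix (mem_Kl_of_fix S hp hc hU) hU

include hp in
/-- The subgroup is self-centralising. -/
theorem centralizer_A {c : G} (h : ∀ a ∈ Aelem S, c * a = a * c) : c ∈ Aelem S := by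
  have hc : c * z = z * c := h z (z_mem_A S)
  have hU : ∀ u ∈ Uset, S.ρ c u = u := by
    intro u hu
    obtain ⟨q, hq, rfl⟩ := S.π_surj u
    rw [← S.ρ_π c hc q hq, h q (piU_le_A S ⟨hq, hu⟩), mul_inv_cancel_right]
  obtain ⟨a, ha, e⟩ := A_lift S (mem_B_of_fix' S hp hc hU)
  have haz := A_z S ha
  have hQ : a⁻¹ * c ∈ Q := (S.ρ_ker _ (S.z_comm_mul (S.z_comm_inv haz) hc)).1 (by
    rw [S.ρ_mul _ _ (S.z_comm_inv haz) hc, S.ρ_inv haz, e, inv_mul_cancel])
  have hpi : a⁻¹ * c ∈ piU S := ⟨hQ, H43.LFi.U_perp fun u hu => by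
    obtain ⟨q, hq, rfl⟩ := S.π_surj u
    refine (S.comm_iff hQ hq).1 ?_
    have h1 : Commute c q := h q (piU_le_A S ⟨hq, hu⟩)
    have h2 : Commute a q := comm_of_mem S ha (piU_le_A S ⟨hq, hu⟩)
    exact (h2.inv_left.mul_left h1).eq⟩
  have := mul_mem ha (piU_le_A S hpi)
  rwa [mul_inv_cancel_left] at this

/-- Elements normalising the data normalise the subgroup. -/
theorem mem_normalizer_A {c : G} (hc : c * z = z * c) (hU : ∀ u ∈ Uset, S.ρ c u ∈ Uset)
    (hB : ∀ b ∈ Bgrp, S.ρ c * b * (S.ρ c)⁻¹ ∈ Bgrp) :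
    c ∈ Subgroup.normalizer (Aelem S : Set G) := by
  have hle : (Aelem S).map (MulAut.conj c).toMonoidHom ≤ Aelem S := by
    rintro _ ⟨a, ha, rfl⟩
    exact A_conj S hc hU hB ha
  have e : (Aelem S).map (MulAut.conj c).toMonoidHom = Aelem S :=
    Subgroup.eq_of_le_of_card_ge hle (card_map_inj _ (MulAut.conj c).injective _).ge
  rw [Subgroup.mem_normalizer_iff]
  intro a
  constructor
  · intro ha
    exact hle ⟨a, ha, rfl⟩
  · intro ha
    rw [← e] at ha
    obtain ⟨b, hb, eb'⟩ := ha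
    have : b = a := mul_left_cancel (mul_right_cancel (show c * b * c⁻¹ = c * a * c⁻¹ from eb'))
    exact this ▸ hb

theorem Q_le_normalizer : Q ≤ Subgroup.normalizer (Aelem S : Set G) := fun q hq => by
  have e := (S.ρ_ker q (S.le q hq)).2 hq
  exact mem_normalizer_A S (S.le q hq) (fun u hu => by rw [e]; exact hu)
    fun b hb => by rw [e, one_mul, inv_one, mul_one]; exact hb

include hp in
/-- A Sylow subgroup with the subgroup as its only large elementary abelian subgroup. -/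
theorem sylow_main : ∃ P : Sylow 2 G, Aelem S ≤ (P : Subgroup G) ∧
    (∀ x ∈ (P : Subgroup G), x * z = z * x) ∧
    ∀ E : Subgroup G, E ≤ (P : Subgroup G) → IsElementaryAbelian 2 E → 2 ^ 11 ≤ Nat.card E →
      E = Aelem S := by
  classical
  have := Fact.mk Nat.prime_two
  obtain ⟨T, hpre, hlin⟩ := sylow_above S
  obtain ⟨P, hP⟩ := (T.isPGroup'.map (Subgroup.centralizer ({z} : Set G)).subtype).exists_le_sylow
  have hmem : ∀ x : ↥(Subgroup.centralizer ({z} : Set G)), S.ρ (x : G) ∈ Sgrp → (x : G) ∈ (P : Subgroup G) := fun x hx =>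
    hP ⟨x, hpre ((mem_preS S).2 hx), rfl⟩
  have hQP : Q ≤ (P : Subgroup G) := fun q hq =>
    hmem ⟨q, Subgroup.mem_centralizer_singleton_iff.2 (S.le q hq)⟩ (by
      rw [(S.ρ_ker q (S.le q hq)).2 hq]; exact one_mem _)
  have hAP : Aelem S ≤ (P : Subgroup G) := fun a ha =>
    hmem ⟨a, Subgroup.mem_centralizer_singleton_iff.2 (A_z S ha)⟩
      (B_le_S ((mem_Aelem S).1 ha).1.2)
  have hPz : ∀ x ∈ (P : Subgroup G), x * z = z * x := by
    have hnt : Nontrivial ↥(P : Subgroup G) :=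
      ⟨⟨⟨z, hAP (z_mem_A S)⟩, 1, fun e => S.z_ne (congrArg Subtype.val e)⟩⟩
    have hct := P.isPGroup'.center_nontrivial
    obtain ⟨c, hc⟩ := exists_ne (1 : ↥(Subgroup.center ↥(P : Subgroup G)))
    have hcQ : ((c : ↥(P : Subgroup G)) : G) ∈ Subgroup.centralizer (Q : Set G) :=
      Subgroup.mem_centralizer_iff.2 fun q hq =>
        congrArg Subtype.val (Subgroup.mem_center_iff.1 c.2 ⟨q, hQP hq⟩)
    rw [hp.hcen] at hcQ
    rcases hp.eq_z hcQ with e | e
    · exact absurd (Subtype.ext (Subtype.ext e)) hc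
    · intro x hx
      rw [← e]
      exact congrArg Subtype.val (Subgroup.mem_center_iff.1 c.2 ⟨x, hx⟩)
  have hPC : (P : Subgroup G) ≤ Subgroup.centralizer ({z} : Set G) := fun x hx => Subgroup.mem_centralizer_singleton_iff.2 (hPz x hx)
  have hPT : (P : Subgroup G).subgroupOf (Subgroup.centralizer ({z} : Set G)) = (T : Subgroup ↥(Subgroup.centralizer ({z} : Set G))) :=
    T.is_maximal' (P.isPGroup'.comap_of_injective (Subgroup.centralizer ({z} : Set G)).subtype (Subgroup.centralizer ({z} : Set G)).subtype_injective) fun x hx =>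
      hP ⟨x, hx, rfl⟩
  refine ⟨P, hAP, hPz, fun E hE hel hcard => ?_⟩
  refine eq_A S hp hel (fun e he => hPz e (hE he)) (fun e he hK => ?_) hcard
  exact hlin ⟨e, hPC (hE he)⟩ (hPT ▸ (hE he : (⟨e, hPC (hE he)⟩ : ↥(Subgroup.centralizer ({z} : Set G))) ∈ (P : Subgroup G).subgroupOf (Subgroup.centralizer ({z} : Set G)))) hK

theorem card_A' : Nat.card (Aelem S) = 2 ^ 11 := H43.LFi.card_A S

theorem isPGroup_A : IsPGroup 2 (Aelem S) := IsPGroup.of_card (n := 11) (by rw [H43.LFi.card_A])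

include hp in
/-- Uniqueness in every Sylow subgroup. -/
theorem sylow_unique (P' : Sylow 2 G) : ∃ x : G,
    (Aelem S).map (MulAut.conj x).toMonoidHom ≤ (P' : Subgroup G) ∧
    ∀ E : Subgroup G, E ≤ (P' : Subgroup G) → IsElementaryAbelian 2 E → 2 ^ 11 ≤ Nat.card E →
      E = (Aelem S).map (MulAut.conj x).toMonoidHom := by
  have := Fact.mk Nat.prime_two
  obtain ⟨P, hAP, -, huniq⟩ := sylow_main S hp
  obtain ⟨x, rfl⟩ := MulAction.exists_smul_eq G P P'
  refine ⟨x, Subgroup.map_mono hAP, fun E hE hel hcard => ?_⟩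
  have e : E.map (MulAut.conj x⁻¹).toMonoidHom = Aelem S := by
    refine huniq _ ?_ ((isElementaryAbelian_map _ (MulAut.conj x⁻¹).injective).2 hel)
      (by rw [card_map_inj _ (MulAut.conj x⁻¹).injective]; exact hcard)
    rintro _ ⟨y, hy, rfl⟩
    obtain ⟨w, hw, rfl⟩ := hE hy
    show x⁻¹ * (x * w * x⁻¹) * x⁻¹⁻¹ ∈ (P : Subgroup G)
    rw [show x⁻¹ * (x * w * x⁻¹) * x⁻¹⁻¹ = w by group]
    exact hw
  rw [← e, Subgroup.map_map]
  ext y
  simp [Subgroup.mem_map, mul_assoc]

include hp in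
theorem thompson_eq (T : Sylow 2 G) : ∃ x : G,
    Cfsg.thompsonSubgroupOf 2 (T : Subgroup G) = (Aelem S).map (MulAut.conj x).toMonoidHom := by
  obtain ⟨x, hle, huniq⟩ := sylow_unique S hp T
  refine ⟨x, ?_⟩
  set A' := (Aelem S).map (MulAut.conj x).toMonoidHom with hA'
  have hel : IsElementaryAbelian 2 A' :=
    (isElementaryAbelian_map _ (MulAut.conj x).injective).2 (A_elementary S)
  have hcard : Nat.card A' = 2 ^ 11 := by
    rw [hA', card_map_inj _ (MulAut.conj x).injective, H43.LFi.card_A]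
  set A'' := A'.subgroupOf (T : Subgroup G)
  have hmap : A''.map (T : Subgroup G).subtype = A' := Subgroup.map_subgroupOf_eq_of_le hle
  have hel'' : IsElementaryAbelian 2 A'' := by
    rw [← isElementaryAbelian_map _ (T : Subgroup G).subtype_injective, hmap]
    exact hel
  have hcard'' : Nat.card A'' = 2 ^ 11 := by
    rw [← hcard, ← hmap, card_map_inj _ (T : Subgroup G).subtype_injective]
  have hkey : ∀ E : Subgroup ↥(T : Subgroup G), IsElementaryAbelian 2 E → 2 ^ 11 ≤ Nat.card E →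
      E = A'' := by
    intro E he hc
    refine Subgroup.map_injective (T : Subgroup G).subtype_injective ?_
    rw [hmap]
    exact huniq _ (Subgroup.map_subtype_le _)
      ((isElementaryAbelian_map _ (T : Subgroup G).subtype_injective).2 he)
      (by rw [card_map_inj _ (T : Subgroup G).subtype_injective]; exact hc)
  have hmax : maxElementaryAbelianSubgroups 2 ↥(T : Subgroup G) = {A''} := by
    ext E
    rw [Set.mem_singleton_iff]
    constructor
    · rintro ⟨he, hm⟩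
      exact hkey E he (hcard'' ▸ hm A'' hel'')
    · rintro rfl
      refine ⟨hel'', fun E he => ?_⟩
      by_contra hlt
      have := hkey E he (by omega)
      exact hlt (this ▸ le_rfl)
  rw [Cfsg.thompsonSubgroupOf, Cfsg.thompsonSubgroup, hmax, sSup_singleton, hmap]

include hp in
/-- The normaliser controls fusion in the subgroup. -/
theorem fusion {a : G} (ha : a ∈ Aelem S) {y : G} (hb : y * a * y⁻¹ ∈ Aelem S) :
    ∃ m ∈ Subgroup.normalizer (Aelem S : Set G), m * a * m⁻¹ = y * a * y⁻¹ := by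
  classical
  have := Fact.mk Nat.prime_two
  set b := y * a * y⁻¹ with hbdef
  set Cb := Subgroup.centralizer ({b} : Set G) with hCb
  set A' := (Aelem S).map (MulAut.conj y).toMonoidHom with hA'
  have h1 : Aelem S ≤ Cb := fun x hx => Subgroup.mem_centralizer_singleton_iff.2 (comm_of_mem S hx hb)
  have h2 : A' ≤ Cb := by
    rintro _ ⟨x, hx, rfl⟩
    refine Subgroup.mem_centralizer_singleton_iff.2 ?_
    show y * x * y⁻¹ * b = b * (y * x * y⁻¹)
    calc y * x * y⁻¹ * b = y * (x * a) * y⁻¹ := by rw [hbdef]; group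
      _ = y * (a * x) * y⁻¹ := by rw [comm_of_mem S hx ha]
      _ = b * (y * x * y⁻¹) := by rw [hbdef]; group
  obtain ⟨R1, hR1⟩ := ((isPGroup_A S).comap_of_injective Cb.subtype Cb.subtype_injective).exists_le_sylow
  obtain ⟨R2, hR2⟩ := (((isPGroup_A S).map (MulAut.conj y).toMonoidHom).comap_of_injective Cb.subtype
    Cb.subtype_injective).exists_le_sylow
  obtain ⟨k, hk⟩ := MulAction.exists_smul_eq ↥Cb R1 R2
  obtain ⟨P', hP'⟩ := (R2.isPGroup'.map Cb.subtype).exists_le_sylow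
  obtain ⟨x, -, huniq⟩ := sylow_unique S hp P'
  have hA'2 : A' ≤ (P' : Subgroup G) := fun v hv => hP' ⟨⟨v, h2 hv⟩, hR2 hv, rfl⟩
  set A1 := (Aelem S).map (MulAut.conj (k : G)).toMonoidHom with hA1
  have hA12 : A1 ≤ (P' : Subgroup G) := by
    rintro _ ⟨v, hv, rfl⟩
    refine hP' ⟨k * ⟨v, h1 hv⟩ * k⁻¹, ?_, rfl⟩
    rw [← hk]
    exact ⟨⟨v, h1 hv⟩, hR1 hv, rfl⟩
  have hel : ∀ w : G, IsElementaryAbelian 2 ((Aelem S).map (MulAut.conj w).toMonoidHom) ∧
      2 ^ 11 ≤ Nat.card ((Aelem S).map (MulAut.conj w).toMonoidHom) := fun w =>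
    ⟨(isElementaryAbelian_map _ (MulAut.conj w).injective).2 (A_elementary S), by
      rw [card_map_inj _ (MulAut.conj w).injective, H43.LFi.card_A]⟩
  have heq : A' = A1 := (huniq A' hA'2 (hel y).1 (hel y).2).trans
    (huniq A1 hA12 (hel k).1 (hel k).2).symm
  have hkb : (k : G) * b = b * k := Subgroup.mem_centralizer_singleton_iff.1 k.2
  refine ⟨(k : G)⁻¹ * y, ?_, ?_⟩
  · rw [Subgroup.mem_normalizer_iff]
    intro v
    have e : ∀ v, v ∈ Aelem S ↔ (k : G)⁻¹ * y * v * ((k : G)⁻¹ * y)⁻¹ ∈ Aelem S := by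
      intro v
      have h3 : y * v * y⁻¹ ∈ A' ↔ v ∈ Aelem S := by
        rw [hA', Subgroup.mem_map_equiv, MulAut.conj_symm_apply]
        rw [show y⁻¹ * (y * v * y⁻¹) * y = v by group]
      rw [← h3, heq, hA1, Subgroup.mem_map_equiv, MulAut.conj_symm_apply]
      rw [show (k : G)⁻¹ * (y * v * y⁻¹) * k = (k : G)⁻¹ * y * v * ((k : G)⁻¹ * y)⁻¹ by group]
    exact e v
  · calc (k : G)⁻¹ * y * a * ((k : G)⁻¹ * y)⁻¹ = (k : G)⁻¹ * (b * k) := by rw [hbdef]; group
      _ = (k : G)⁻¹ * ((k : G) * b) := by rw [hkb]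
      _ = b := inv_mul_cancel_left _ _

end Cfsg.Agent.H61.Todd
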