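import Cfsg.Agent.H61.Todd.ModelCheck
import Cfsg.Agent.H43.LFi.Uniq
import Cfsg.Agent.H41.LFi.Core

/-!
The isotropic set of 64 vectors: lines, images of the involutions fixing it, and the fact that
these involutions are all the elements of the model fixing it pointwise.
-/

set_option autoImplicit false
set_option maxRecDepth 20000

namespace Cfsg.Agent.H61.Todd

open Cfsg Cfsg.Agent.Compute Cfsg.Agent.Unitary Cfsg.Agent.H41.SUSix Cfsg.Agent.H41.LFi
  Cfsg.Agent.H43.LFi Matrix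

attribute [local irreducible] mC wApC mulVecC

/-- The representative of a line. -/
noncomputable def rV (i : ℕ) : Vec := dV (repC i)

theorem eP_bIdx_mem {j : ℕ} (hj : j < 16) : eP (bIdx j) ∈ Bgrp := ⟨j, hj, rfl⟩

theorem rep_lt {i : ℕ} (hi : i < 6) : repC i < 4096 := by
  have h := (allN_iff _ _).1 rep_ok i hi
  simp only [Bool.and_eq_true, Nat.ble_eq] at h
  omega

theorem cls_rV {i : ℕ} (hi : i < 6) : cls (rV i) = 2 := by
  have h := (allN_iff _ _).1 rep_ok i hi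
  simp only [Bool.and_eq_true, Nat.beq_eq] at h
  rw [rV, cls, eV_dV (rep_lt hi), h.1.1]

theorem rV_mem {i : ℕ} (hi : i < 6) : rV i ∈ Uset := by
  have h := (allN_iff _ _).1 rep_ok i hi
  simp only [Bool.and_eq_true, anyN_iff, Nat.beq_eq] at h
  obtain ⟨k, hk, e⟩ := h.2
  rw [rV, ← e]
  exact (u_facts hk).2.2.1

theorem smul_U (c : K4) {u : Vec} (hu : u ∈ Uset) : c • u ∈ Uset :=
  mem_U.2 fun b => by rw [(semi_eP _).smul, mem_U.1 hu b]; rfl

theorem fe_succ : ∀ c : ℕ, c < 3 → fe (c + 1) ≠ 0 := by decide +kernel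

theorem exists_fe : ∀ x : K4, ∃ c < 4, fe c = x := by decide +kernel

theorem scalC_lt' (c v : ℕ) : scalC c v < 4096 := scalC_lt _ _

theorem cls_smul {i : ℕ} (hi : i < 6) {c : K4} (hc : c ≠ 0) : cls (c • rV i) = 2 := by
  obtain ⟨a, ha, rfl⟩ := exists_fe c
  have ha0 : a ≠ 0 := fun e => hc (by subst e; rfl)
  have h := (allN_iff _ _).1 smul_ok i hi
  simp only [allN_iff, Nat.beq_eq] at h
  have e := h (a - 1) (by omega)
  rw [show Nat.add (a - 1) 1 = a by simp; omega] at e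
  rw [rV, ← dV_scalC ha, cls, eV_dV (scalC_lt' _ _)]
  exact e

theorem cross {i j : ℕ} (hi : i < 6) (hj : j < 6) (hne : i ≠ j) {c d : K4} (hc : c ≠ 0)
    (hd : d ≠ 0) : cls (c • rV i + d • rV j) = 3 := by
  obtain ⟨a, ha, rfl⟩ := exists_fe c
  obtain ⟨b, hb, rfl⟩ := exists_fe d
  have ha0 : a ≠ 0 := fun e => hc (by subst e; rfl)
  have hb0 : b ≠ 0 := fun e => hd (by subst e; rfl)
  have h := (allN_iff _ _).1 ((allN_iff _ _).1 cross_ok i hi) j hj
  simp only [Bool.or_eq_true, Nat.beq_eq, allN_iff] at h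
  have e := (h.resolve_left hne) (a - 1) (by omega) (b - 1) (by omega)
  rw [show Nat.add (a - 1) 1 = a by simp; omega, show Nat.add (b - 1) 1 = b by simp; omega] at e
  rw [rV, rV, ← dV_scalC ha, ← dV_scalC hb, ← dV_xor, cls,
    eV_dV (H41.LFi.xor_lt (scalC_lt' _ _) (scalC_lt' _ _))]
  exact e

theorem U_span {u : Vec} (hu : u ∈ Uset) :
    ∃ a b c : K4, u = a • rV 0 + (b • rV 1 + c • rV 2) := by
  obtain ⟨i, hi, rfl⟩ := U_list hu
  have h := (allN_iff _ _).1 span_ok i hi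
  simp only [anyN_iff, Nat.beq_eq] at h
  obtain ⟨c, -, e⟩ := h
  rw [← e, threeC, dV_xor, dV_xor, dV_scalC (getP_lt 2 _ _), dV_scalC (getP_lt 2 _ _),
    dV_scalC (getP_lt 2 _ _)]
  exact ⟨_, _, _, rfl⟩

theorem U_cls2 {u : Vec} (hu : u ∈ Uset) (h2 : cls u = 2) :
    ∃ i < 6, ∃ c : K4, c ≠ 0 ∧ u = c • rV i := by
  obtain ⟨k, hk, rfl⟩ := U_list hu
  rw [cls, eV_dV (u_facts hk).1] at h2
  have h := (allN_iff _ _).1 line_ok k hk
  simp only [Bool.or_eq_true, Bool.not_eq_true', anyN_iff, Nat.beq_eq] at h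
  rcases h with h | ⟨i, hi, c, hc, e⟩
  · rw [h2] at h; exact Bool.noConfusion h
  · refine ⟨i, hi, fe (c + 1), fe_succ c hc, ?_⟩
    rw [rV, ← dV_scalC (by omega)]
    exact congrArg dV e.symm

theorem line_eq {i j : ℕ} (hi : i < 6) (hj : j < 6) {c d : K4} (hc : c ≠ 0) (hd : d ≠ 0)
    (h : c • rV i = d • rV j) : i = j := by
  by_contra hne
  have := cross hi hj hne hc hd
  rw [h, show d • rV j + d • rV j = 0 from vec_add_self _, cls] at this
  have h0 : eV (0 : Vec) = 0 := by rw [← dV_zero, eV_dV (by norm_num)]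
  rw [h0] at this
  exact absurd this (by decide +kernel)

/-! ### The images of the involutions -/

theorem im_facts {j : ℕ} (hj : j < 16) (h0 : j ≠ 0) :
    lnA j ≠ lnB j ∧ lnA j < 6 ∧ lnB j < 6 ∧
    eP (bIdx j) (dV (witA j)) + dV (witA j) = rV (lnA j) ∧
    eP (bIdx j) (dV (witB j)) + dV (witB j) = rV (lnB j) ∧
    ∀ k < 6, ∃ c d : K4, eP (bIdx j) (dV (bC k)) + dV (bC k) = c • rV (lnA j) + d • rV (lnB j) := by
  have h := (allN_iff _ _).1 im_ok j hj
  simp only [Bool.or_eq_true, Bool.and_eq_true, Nat.beq_eq, Bool.not_eq_true', Nat.ble_eq,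
    allN_iff, anyN_iff] at h
  obtain ⟨⟨⟨⟨⟨h1, h2⟩, h3⟩, h4⟩, h5⟩, h6⟩ := h.resolve_left h0
  have hb := bIdx_lt j hj
  have e : ∀ v, eP (bIdx j) (dV v) + dV v = dV (mvC (bIdx j) v) := fun v => by
    rw [← moveHom_dV hb]; rfl
  refine ⟨fun e' => ?_, by omega, by omega, by rw [e, h4]; rfl, by rw [e, h5]; rfl, fun k hk => ?_⟩
  · rw [e', ← Bool.not_eq_true, Nat.beq_eq] at h1
    exact h1 rfl
  · obtain ⟨c, hc, d, hd, h'⟩ := h6 k hk
    exact ⟨fe c, fe d, by rw [e, h', twoC, dV_xor, dV_scalC hc, dV_scalC hd]; rfl⟩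

/-- The difference of a vector and its image. -/
noncomputable def dlt (j : ℕ) : Vec → Vec := fun v => eP (bIdx j) v + v

theorem dlt_add (j : ℕ) (u v : Vec) : dlt j (u + v) = dlt j u + dlt j v := by
  simp only [dlt, (semi_eP _).add]; abel

theorem dlt_smul (j : ℕ) (c : K4) (v : Vec) : dlt j (c • v) = c • dlt j v := by
  simp only [dlt, (semi_eP _).smul, smul_add]; rfl

theorem range_dlt {j : ℕ} (hj : j < 16) (h0 : j ≠ 0) (v : Vec) :
    ∃ c d : K4, dlt j v = c • rV (lnA j) + d • rV (lnB j) := by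
  obtain ⟨-, -, -, -, -, h⟩ := im_facts hj h0
  have hk : ∀ k : Fin 6, ∃ c d : K4, dlt j (eb k) = c • rV (lnA j) + d • rV (lnB j) := fun k => by
    rw [← dV_bC]; exact h k k.2
  choose c d hcd using hk
  refine ⟨v 0 * c 0 + (v 1 * c 1 + (v 2 * c 2 + (v 3 * c 3 + (v 4 * c 4 + v 5 * c 5)))),
    v 0 * d 0 + (v 1 * d 1 + (v 2 * d 2 + (v 3 * d 3 + (v 4 * d 4 + v 5 * d 5)))), ?_⟩
  conv_lhs => rw [vec_expand v]
  simp only [dlt_add, dlt_smul, hcd, smul_add, smul_smul, add_smul]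
  abel

theorem dlt_surj {j : ℕ} (hj : j < 16) (h0 : j ≠ 0) (c d : K4) :
    dlt j (c • dV (witA j) + d • dV (witB j)) = c • rV (lnA j) + d • rV (lnB j) := by
  obtain ⟨-, -, -, h1, h2, -⟩ := im_facts hj h0
  rw [dlt_add, dlt_smul, dlt_smul]
  simp only [dlt] at h1 h2 ⊢
  rw [h1, h2]

theorem dlt_mem_U {j : ℕ} (hj : j < 16) (h0 : j ≠ 0) (v : Vec) : dlt j v ∈ Uset := by
  obtain ⟨c, d, e⟩ := range_dlt hj h0 v
  obtain ⟨-, ha, hb, -, -, -⟩ := im_facts hj h0
  rw [e]
  exact Uset.add_mem (smul_U c (rV_mem ha)) (smul_U d (rV_mem hb))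

theorem smul_zero_iff : ∀ c : K4, c • (0 : K4) = 0 := by decide +kernel

theorem rV_ne_zero {i : ℕ} (hi : i < 6) : rV i ≠ 0 := fun e => by
  have h := cls_rV hi
  rw [e, cls, show eV (0 : Vec) = 0 by rw [← dV_zero, eV_dV (by norm_num)]] at h
  exact absurd h (by decide +kernel)

theorem card_range_dlt {j : ℕ} (hj : j < 16) (h0 : j ≠ 0) :
    (Set.range (dlt j)).ncard = 16 := by
  obtain ⟨hab, ha, hb, -, -, -⟩ := im_facts hj h0
  have he : Set.range (dlt j) = Set.range fun p : K4 × K4 => p.1 • rV (lnA j) + p.2 • rV (lnB j) := by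
    ext w
    constructor
    · rintro ⟨v, rfl⟩
      obtain ⟨c, d, e⟩ := range_dlt hj h0 v
      exact ⟨(c, d), e.symm⟩
    · rintro ⟨p, rfl⟩
      exact ⟨_, dlt_surj hj h0 p.1 p.2⟩
  rw [he, Set.ncard_range_of_injective, Nat.card_prod, Nat.card_eq_fintype_card]
  · decide +kernel
  · rintro ⟨c, d⟩ ⟨c', d'⟩ e
    have k2 : ∀ x y : K4, x = y ↔ x + y = 0 := by decide +kernel
    have e' : (c + c') • rV (lnA j) = (d + d') • rV (lnB j) := by
      have h1 : c • rV (lnA j) + d • rV (lnB j) = c' • rV (lnA j) + d' • rV (lnB j) := e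
      refine vec_eq_of_add ?_
      calc (c + c') • rV (lnA j) + (d + d') • rV (lnB j)
          = (c • rV (lnA j) + d • rV (lnB j)) + (c' • rV (lnA j) + d' • rV (lnB j)) := by
            rw [add_smul, add_smul]; abel
        _ = 0 := by rw [h1]; exact vec_add_self _
    by_cases hc : c + c' = 0
    · rw [hc, zero_smul, eq_comm, smul_eq_zero] at e'
      have hd := e'.resolve_right (rV_ne_zero hb)
      rw [(k2 c c').2 hc, (k2 d d').2 hd]
    · by_cases hd : d + d' = 0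
      · rw [hd, zero_smul, smul_eq_zero] at e'
        exact absurd (e'.resolve_right (rV_ne_zero ha)) hc
      · exact absurd (line_eq ha hb hc hd e') hab

theorem rep_range_iff {i j : ℕ} (hi : i < 6) (hj : j < 16) (h0 : j ≠ 0) {e : K4} (he : e ≠ 0) :
    e • rV i ∈ Set.range (dlt j) ↔ onLine i j = true := by
  obtain ⟨hab, ha, hb, -, -, -⟩ := im_facts hj h0
  have hon : onLine i j = true ↔ lnA j = i ∨ lnB j = i := by
    simp [onLine, ← Bool.not_eq_true, Nat.beq_eq, h0]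
  rw [hon]
  constructor
  · rintro ⟨v, hv⟩
    obtain ⟨c, d, e'⟩ := range_dlt hj h0 v
    rw [hv] at e'
    by_cases hc : c = 0
    · subst hc
      rw [zero_smul, zero_add] at e'
      by_cases hd : d = 0
      · subst hd
        rw [zero_smul, smul_eq_zero] at e'
        exact absurd (e'.resolve_right (rV_ne_zero hi)) he
      · exact Or.inr (line_eq hb hi hd he e'.symm)
    · by_cases hd : d = 0
      · subst hd
        rw [zero_smul, add_zero] at e'
        exact Or.inl (line_eq ha hi hc he e'.symm)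
      · have h3 := cross ha hb hab hc hd
        rw [← e', cls_smul hi he] at h3
        exact absurd h3 (by norm_num)
  · rintro (rfl | rfl)
    · refine ⟨_, (dlt_surj hj h0 e 0).trans ?_⟩
      rw [zero_smul, add_zero]
    · refine ⟨_, (dlt_surj hj h0 0 e).trans ?_⟩
      rw [zero_smul, zero_add]

theorem card_onLine {i : ℕ} (hi : i < 6) :
    ((Finset.range 16).filter fun j => onLine i j = true).card = 5 := five_ok ⟨i, hi⟩

/-! ### Fixing the set pointwise -/

theorem wt_Kl {k : Equiv.Perm Vec} (hk : k ∈ Kl) (u : Vec) : wt (k u) = wt u := by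
  obtain ⟨g, -, rfl⟩ := hk
  exact wt_lin g u

theorem fixer_sq {a : Equiv.Perm Vec} (ha : a ∈ Kl) (hU : ∀ u ∈ Uset, a u = u) : a * a = 1 := by
  have hs := semi_of_mem_Kl ha
  refine Equiv.ext fun v => ?_
  have hm : a v + v ∈ Uset := H43.LFi.U_perp fun u hu => by
    rw [pol_add_left]
    have e : pol (a v) u = pol v u := by
      conv_lhs => rw [← hU u hu]
      simp only [pol, ← hs.add, wt_Kl ha]
    rw [e]
    exact H41.LFi.zmod_add_self _
  have h := hU _ hm
  rw [hs.add] at h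
  show a (a v) = v
  exact add_right_cancel (h.trans (add_comm _ _))

/-- The elements of the model fixing the set pointwise are the sixteen involutions. -/
theorem mem_B_of_fix {a : Equiv.Perm Vec} (ha : a ∈ Kl) (hU : ∀ u ∈ Uset, a u = u) :
    a ∈ Bgrp := by
  classical
  have := Fact.mk Nat.prime_two
  let F : Subgroup (Equiv.Perm Vec) :=
    { carrier := {x | x ∈ Kl ∧ ∀ u ∈ Uset, x u = u}
      one_mem' := ⟨one_mem _, fun _ _ => rfl⟩
      mul_mem' := fun {x y} hx hy => ⟨mul_mem hx.1 hy.1, fun u hu => by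
        rw [Equiv.Perm.mul_apply, hy.2 u hu, hx.2 u hu]⟩
      inv_mem' := fun {x} hx => ⟨inv_mem hx.1, fun u hu => x.symm_apply_eq.2 (hx.2 u hu).symm⟩ }
  have hBF : Bgrp ≤ F := fun b hb => ⟨S_le (B_le_S hb), fun u hu => B_fixes_U hb hu⟩
  have hsq : ∀ x ∈ F, x * x = 1 := fun x hx => fixer_sq hx.1 hx.2
  have hp : IsPGroup 2 (F.subgroupOf Kl) := fun x =>
    ⟨1, Subtype.ext (Subtype.ext (by
      rw [pow_one]
      show ((x : ↥Kl) ^ 2 : ↥Kl).1 = 1
      rw [pow_two]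
      exact hsq _ x.2))⟩
  obtain ⟨P, hP⟩ := hp.exists_le_sylow
  have hSc : Nat.card (Sgrp.subgroupOf Kl) = 2 ^ (Nat.card ↥Kl).factorization 2 := by
    rw [Nat.card_congr (Subgroup.subgroupOfEquivOfLe S_le).toEquiv, card_S, card_Kl,
      show 3 * 3265920 = 2 ^ 7 * 76545 by norm_num,
      Nat.factorization_mul (by norm_num) (by norm_num), Finsupp.add_apply,
      Nat.Prime.factorization_pow Nat.prime_two, Finsupp.single_eq_same,
      Nat.factorization_eq_zero_of_not_dvd (show ¬2 ∣ 76545 by norm_num)]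
    norm_num
  obtain ⟨k, hk⟩ := MulAction.exists_smul_eq ↥Kl P (Sylow.ofCard _ hSc)
  set φ := (MulAut.conj (k : Equiv.Perm Vec)).toMonoidHom
  have hR : F.map φ ≤ Sgrp := by
    rintro _ ⟨x, hx, rfl⟩
    have hxP : (⟨x, hx.1⟩ : ↥Kl) ∈ (P : Subgroup ↥Kl) := hP hx
    have h : k * ⟨x, hx.1⟩ * k⁻¹ ∈ ((k • P : Sylow 2 ↥Kl) : Subgroup ↥Kl) :=
      ⟨⟨x, hx.1⟩, hxP, rfl⟩
    rw [hk] at h
    exact h
  have hc : ∀ x ∈ F, ∀ y ∈ F, x * y = y * x := fun x hx y hy => by
    have e := hsq _ (mul_mem hx hy)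
    have ea := inv_eq_of_mul_eq_one_right (hsq x hx)
    have eb' := inv_eq_of_mul_eq_one_right (hsq y hy)
    calc x * y = (x * y)⁻¹ := (inv_eq_of_mul_eq_one_right e).symm
      _ = y * x := by rw [_root_.mul_inv_rev, ea, eb']
  have hcard : Nat.card (F.map φ) = Nat.card F :=
    (Nat.card_congr (F.equivMapOfInjective φ (MulAut.conj (k : Equiv.Perm Vec)).injective).toEquiv).symm
  have h16 : 16 ≤ Nat.card F := card_B ▸ Subgroup.card_le_of_le hBF
  have hcl := (classify hR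
    (by
      rintro _ ⟨x, hx, rfl⟩ _ ⟨y, hy, rfl⟩
      rw [← map_mul, ← map_mul, hc x hx y hy])
    (by
      rintro _ ⟨x, hx, rfl⟩
      rw [← map_mul, hsq x hx, map_one])
    (hcard ▸ h16)).1
  rw [hcard] at hcl
  exact (Subgroup.eq_of_le_of_card_ge hBF (by rw [card_B, hcl])) ▸ (⟨ha, hU⟩ : a ∈ F)

end Cfsg.Agent.H61.Todd
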