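import Cfsg.Agent.H43.LFi.Check

/-!
Kernel checks on the isotropic set of 64 vectors: its six lines of the second class, and the images
of the fifteen involutions fixing it.
-/

set_option autoImplicit false
set_option Elab.async false
set_option maxRecDepth 100000
set_option maxHeartbeats 4000000

namespace Cfsg.Agent.H61.Todd

open Cfsg.Agent.Compute Cfsg.Agent.H41.SUSix Cfsg.Agent.H41.LFi Cfsg.Agent.H43.LFi

def repTab : List ℕ := [1455, 1530, 1638, 1689, 1917, 2007]

/-- The two lines of an element, and vectors mapped to their representatives. -/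
def imTab : List (ℕ × ℕ × ℕ × ℕ) := [(0, 0, 0, 0),
  (0, 1, 50, 35), (2, 3, 9, 6), (4, 5, 7, 13), (0, 2, 6, 15), (1, 2, 13, 15), (0, 3, 9, 15),
  (1, 3, 7, 15), (0, 4, 6, 10), (1, 4, 13, 10), (1, 5, 7, 10), (0, 5, 9, 10), (2, 4, 49, 34),
  (3, 5, 50, 34), (3, 4, 6, 7), (2, 5, 9, 13)]

def dualTab : List ℕ := [28, 56, 62, 41, 5, 15]

/-- The code of the representative of a line. -/
noncomputable def repC (i : ℕ) : ℕ := nth 0 repTab i

/-- The first line of the `j`-th involution. -/
noncomputable def lnA (j : ℕ) : ℕ := (nth (0, 0, 0, 0) imTab j).1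

/-- The second line of the `j`-th involution. -/
noncomputable def lnB (j : ℕ) : ℕ := (nth (0, 0, 0, 0) imTab j).2.1

/-- A vector moved by the first representative. -/
noncomputable def witA (j : ℕ) : ℕ := (nth (0, 0, 0, 0) imTab j).2.2.1

/-- A vector moved by the second representative. -/
noncomputable def witB (j : ℕ) : ℕ := (nth (0, 0, 0, 0) imTab j).2.2.2

/-- The combination of two representatives. -/
noncomputable def twoC (a b c d : ℕ) : ℕ := Nat.xor (scalC c (repC a)) (scalC d (repC b))

/-- The combination of the first three representatives. -/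
noncomputable def threeC (c : ℕ) : ℕ :=
  Nat.xor (scalC (getP 2 c 0) (repC 0))
    (Nat.xor (scalC (getP 2 c 1) (repC 1)) (scalC (getP 2 c 2) (repC 2)))

/-- The six spanning vectors over the prime field. -/
noncomputable def genC (k : ℕ) : ℕ := scalC (Nat.add 1 (Nat.mod k 2)) (repC (Nat.div k 2))

theorem rep_ok : allN 6 (fun i => Nat.beq (clsC (repC i)) 2 && Nat.ble (repC i) 4095 &&
    anyN 64 (fun k => Nat.beq (uC k) (repC i))) = true := by
  decide +kernel

theorem smul_ok : allN 6 (fun i => allN 3 (fun c =>
    Nat.beq (clsC (scalC (Nat.add c 1) (repC i))) 2)) = true := by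
  decide +kernel

theorem cross_ok : allN 6 (fun i => allN 6 (fun j => Nat.beq i j || allN 3 (fun c => allN 3 (fun d =>
    Nat.beq (clsC (twoC i j (Nat.add c 1) (Nat.add d 1))) 3)))) = true := by
  decide +kernel

theorem span_ok : allN 64 (fun i => anyN 64 (fun c => Nat.beq (threeC c) (uC i))) = true := by
  decide +kernel

theorem line_ok : allN 64 (fun k => !Nat.beq (clsC (uC k)) 2 ||
    anyN 6 (fun i => anyN 3 (fun c => Nat.beq (scalC (Nat.add c 1) (repC i)) (uC k)))) = true := by
  decide +kernel

theorem im_ok : allN 16 (fun j => Nat.beq j 0 || (!Nat.beq (lnA j) (lnB j) &&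
    Nat.ble (lnA j) 5 && Nat.ble (lnB j) 5 &&
    Nat.beq (mvC (bIdx j) (witA j)) (repC (lnA j)) && Nat.beq (mvC (bIdx j) (witB j)) (repC (lnB j)) &&
    allN 6 (fun k => anyN 4 (fun c => anyN 4 (fun d =>
      Nat.beq (mvC (bIdx j) (bC k)) (twoC (lnA j) (lnB j) c d)))))) = true := by
  decide +kernel

/-- Being one of the five involutions of a line. -/
noncomputable def onLine (i j : ℕ) : Bool :=
  !Nat.beq j 0 && (Nat.beq (lnA j) i || Nat.beq (lnB j) i)

theorem five_ok : ∀ i : Fin 6, ((Finset.range 16).filter fun j => onLine i j = true).card = 5 := by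
  decide +kernel

/-- Bit mask of the pairings of a vector with six others. -/
noncomputable def dualC (k : ℕ) : ℕ := nth 0 dualTab k

end Cfsg.Agent.H61.Todd
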