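import Cfsg.Agent.H61.Todd.Count

/-!
Transitivity on the non-conjugates of the central involution, elements of order seven, and the
order of the induced group.
-/

set_option autoImplicit false
set_option maxRecDepth 20000

namespace Cfsg.Agent.H61.Todd

open Cfsg Cfsg.Agent.Compute Cfsg.Agent.Unitary Cfsg.Agent.H41.SUSix Cfsg.Agent.H41.LFi
  Cfsg.Agent.H43.LFi Matrix

attribute [local irreducible] mC sigC bIdx wApC mulVecC wP eP uC

variable {G : Type*} [Group G] [Finite G] {z g : G} {Q : Subgroup G} (S : LSetup z Q)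
  (hp : H92.PairSetting Q z g)

include hp in
theorem outer_trans {x y : G} (hx : x ∈ Aelem S) (hxN : x ∈ Nc z) (hxQ : x ∉ Q) (hy : y ∈ Aelem S)
    (hyN : y ∈ Nc z) (hyQ : y ∉ Q) :
    ∃ m ∈ Mgrp S, m * z = z * m ∧ m * x * m⁻¹ = y := by
  obtain ⟨i, hi, hxρ⟩ := exists_idx S hx
  obtain ⟨k, hk, hyρ⟩ := exists_idx S hy
  let f : ℕ → Prop := fun j => ∃ c ∈ Mgrp S, c * z = z * c ∧ S.ρ (c * x * c⁻¹) = eP (bIdx j)
  have hinv : ∀ l < 5, ∀ j < 16, f (sigC l j) = f j := by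
    intro l hl j hj
    obtain ⟨d, hdM, hdz, hd⟩ := exists_lift S hl
    refine propext ⟨fun ⟨c, hc, hcz, e⟩ => ?_, fun ⟨c, hc, hcz, e⟩ => ?_⟩
    · obtain ⟨-, h2⟩ := lift_back S hj hdM hdz hd (conj_mem_M S hc hx) e
      refine ⟨d⁻¹ * c, mul_mem (inv_mem hdM) hc, S.z_comm_mul (S.z_comm_inv hdz) hcz, ?_⟩
      rw [← h2]; congr 1; group
    · refine ⟨d * c, mul_mem hdM hc, S.z_comm_mul hdz hcz, ?_⟩
      rw [← hd j hj _ (conj_mem_M S hc hx) e]; congr 1; group
  have hfi : f i := ⟨1, one_mem _, by simp, by simpa using hxρ⟩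
  have hfk : f k := by
    rw [sig_const f hinv k hk (idx_ne_zero S hy hyQ hyρ),
      ← sig_const f hinv i hi (idx_ne_zero S hx hxQ hxρ)]
    exact hfi
  obtain ⟨c, hc, hcz, e⟩ := hfk
  obtain ⟨heq, -, -⟩ := coset_facts S hp hk (idx_ne_zero S hy hyQ hyρ)
    (x := c * x * c⁻¹) ⟨conj_mem_M S hc hx, Nc_conj hxN c, e⟩
  obtain ⟨q, hq, hqe⟩ := (Set.ext_iff.1 heq y).2 ⟨hy, hyN, hyρ⟩
  refine ⟨q * c, mul_mem (Q_le_normalizer S hq) hc, S.z_comm_mul (S.le q hq) hcz, ?_⟩
  rw [← hqe]; group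

include hp in
theorem exists_outer : ∃ x ∈ Aelem S, x ∈ Nc z ∧ x ∉ Q := by
  obtain ⟨x, hx⟩ := Set.nonempty_of_ncard_ne_zero
    (show (fib S 1).ncard ≠ 0 by rw [fib_one S hp]; norm_num)
  exact ⟨x, hx.1, hx.2.1, fun h => absurd (idx_unique (show 1 < 16 by norm_num) (by norm_num)
    (hx.2.2.symm.trans ((ρ_A_zero S hx.1).2 h))) one_ne_zero⟩

include hp in
theorem to_outer {t : G} (ht : t ∈ Aelem S) (htN : t ∈ Nc z) :
    ∃ m ∈ Mgrp S, m * t * m⁻¹ ∉ Q := by
  by_contra hcon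
  push Not at hcon
  by_cases htQ : t ∈ Q
  swap
  · exact htQ (by simpa using hcon 1 (one_mem _))
  set O : Set G := {v | ∃ m ∈ Mgrp S, m * t * m⁻¹ = v}
  let H := Subgroup.closure O
  have hsub : H ≤ piU S := (Subgroup.closure_le _).2 (by
    rintro _ ⟨m, hm, rfl⟩
    exact (piU_iff S (conj_mem_M S hm ht)).2 (hcon m hm))
  have hinv : ∀ m ∈ Mgrp S, ∀ v ∈ H, m * v * m⁻¹ ∈ H := by
    intro m hm v hv
    induction hv using Subgroup.closure_induction with
    | mem w hw =>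
      obtain ⟨k, hk, rfl⟩ := hw
      exact Subgroup.subset_closure ⟨m * k, mul_mem hm hk, by group⟩
    | one => simp
    | mul a b _ _ ha hb => simpa [mul_assoc] using mul_mem ha hb
    | inv a _ ha => simpa [mul_assoc] using inv_mem ha
  have hπ : S.π t ≠ 0 := fun e => by
    rcases (S.π_zero t htQ).1 e with e' | e'
    · exact htN.1 e'
    · exact htN.2 (e' ▸ IsConj.refl _)
  obtain ⟨q, hq, hqt⟩ := S.exists_conj_z htQ hπ
  have hzH : z ∈ H := by
    have h1 : z * t ∈ H := hqt ▸ Subgroup.subset_closure ⟨q, Q_le_normalizer S hq, rfl⟩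
    have h2 : t ∈ H := Subgroup.subset_closure ⟨1, one_mem _, by simp⟩
    simpa using mul_mem h1 (inv_mem h2)
  have hle : (Zset S).ncard ≤ (piU S : Set G).ncard := by
    refine Set.ncard_le_ncard_of_injOn Subtype.val (fun a ha => ?_) Subtype.val_injective.injOn
      (Set.toFinite _)
    obtain ⟨f, hf, rfl⟩ := Zset_trans S hp ha
    obtain ⟨m, hm, e⟩ := Gam_conj S hf
    rw [SetLike.mem_coe, e]
    exact hsub (hinv m hm z hzH)
  rw [← Nat.card_coe_set_eq (piU S : Set G), SetLike.coe_sort_coe, card_piU, (card_N_eq S hp).2] at hle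
  norm_num at hle

include hp in
theorem N_trans {x y : G} (hx : x ∈ Aelem S) (hxN : x ∈ Nc z) (hy : y ∈ Aelem S) (hyN : y ∈ Nc z) :
    ∃ m ∈ Mgrp S, m * x * m⁻¹ = y := by
  obtain ⟨a, ha, ha'⟩ := to_outer S hp hx hxN
  obtain ⟨b, hb, hb'⟩ := to_outer S hp hy hyN
  obtain ⟨m, hm, -, e⟩ := outer_trans S hp (conj_mem_M S ha hx) (Nc_conj hxN a) ha'
    (conj_mem_M S hb hy) (Nc_conj hyN b) hb'
  refine ⟨b⁻¹ * m * a, mul_mem (mul_mem (inv_mem hb) hm) ha, ?_⟩
  calc b⁻¹ * m * a * x * (b⁻¹ * m * a)⁻¹ = b⁻¹ * (m * (a * x * a⁻¹) * m⁻¹) * b := by group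
    _ = y := by rw [e]; group

/-! ### Elements of order seven -/

theorem seven_core {m : G} (hm : m * z = z * m) (hU : ∀ u ∈ Uset, S.ρ m u ∈ Uset)
    (h7 : ∀ u ∈ Uset, (S.ρ m ^ 7) u = u) (h7B : S.ρ m ^ 7 ∈ Kl) :
    S.ρ m ∈ Kl ∧ ∀ u ∈ Uset, S.ρ m u = u := by
  have hKl : S.ρ m ∈ Kl := by
    by_contra h
    have h2 := S.two_elts hm hm h h
    refine h ?_
    have e : S.ρ m ^ 7 = S.ρ m * (S.ρ m * S.ρ m) ^ 3 := by
      rw [← pow_two, ← pow_mul, ← pow_succ']
    rw [e] at h7B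
    exact (Subgroup.mul_mem_cancel_right _ (pow_mem h2 3)).1 h7B
  refine ⟨hKl, ?_⟩
  have hs := semi_of_mem_Kl hKl
  have hσ : ∀ i : Fin 6, ∃ k : Fin 6, ∃ c : K4, c ≠ 0 ∧ S.ρ m (rV i) = c • rV k := fun i => by
    obtain ⟨k, hk, c, hc, e⟩ := U_cls2 (hU _ (rV_mem i.2)) (by rw [S.ρ_cls m hm, cls_rV i.2])
    exact ⟨⟨k, hk⟩, c, hc, e⟩
  choose σ c hc e using hσ
  have hinj : Function.Injective σ := by
    intro i k h
    have e' : S.ρ m (c k • rV i) = S.ρ m (c i • rV k) := by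
      rw [hs.smul, hs.smul, e, e, h, smul_smul, smul_smul]
      show (c k * c i) • _ = (c i * c k) • _
      rw [mul_comm]
    exact Fin.ext (line_eq i.2 k.2 (hc k) (hc i) ((S.ρ m).injective e'))
  let τ : Equiv.Perm (Fin 6) := Equiv.ofBijective σ (Finite.injective_iff_bijective.1 hinj)
  have hpow : ∀ n : ℕ, ∀ i : Fin 6, ∃ d : K4, d ≠ 0 ∧
      (S.ρ m ^ n) (rV i) = d • rV ((τ ^ n) i : Fin 6) := by
    intro n
    induction n with
    | zero => exact fun i => ⟨1, one_ne_zero, (one_smul _ _).symm⟩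
    | succ n ih =>
      intro i
      obtain ⟨d, hd, h⟩ := ih i
      refine ⟨d * c ((τ ^ n) i), mul_ne_zero hd (hc _), ?_⟩
      rw [pow_succ', Equiv.Perm.mul_apply, h, hs.smul, e, pow_succ', Equiv.Perm.mul_apply]
      exact (smul_smul _ _ _)
  have hτ7 : τ ^ 7 = 1 := by
    refine Equiv.ext fun i => ?_
    rw [Equiv.Perm.one_apply]
    obtain ⟨d, hd, h⟩ := hpow 7 i
    rw [h7 _ (rV_mem i.2)] at h
    exact Fin.ext (line_eq ((τ ^ 7) i).2 i.2 hd one_ne_zero (by rw [← h, one_smul]))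
  have hτ : τ = 1 := by
    rw [← orderOf_eq_one_iff]
    have h1 : orderOf τ ∣ 7 := orderOf_dvd_of_pow_eq_one hτ7
    have h2 : orderOf τ ∣ 720 := by
      have := orderOf_dvd_natCard τ
      rwa [Nat.card_perm, Nat.card_fin] at this
    exact Nat.dvd_one.1 (Nat.dvd_gcd h1 h2)
  have hfix : ∀ i : Fin 6, S.ρ m (rV i) = rV i := by
    intro i
    have ei : S.ρ m (rV i) = c i • rV i := by
      have := e i
      rwa [show σ i = i from Equiv.congr_fun hτ i] at this
    have hn : ∀ n : ℕ, (S.ρ m ^ n) (rV i) = c i ^ n • rV i := by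
      intro n
      induction n with
      | zero => simp
      | succ n ih =>
        rw [pow_succ', Equiv.Perm.mul_apply, ih, hs.smul, ei, smul_smul, pow_succ]
        rfl
    have h := hn 7
    rw [h7 _ (rV_mem i.2)] at h
    have h' : (1 - c i ^ 7) • rV i = 0 := by rw [sub_smul, one_smul, ← h, sub_self]
    rw [smul_eq_zero, sub_eq_zero] at h'
    have key : ∀ x : K4, 1 = x ^ 7 → x = 1 := by decide +kernel
    rw [ei, key _ (h'.resolve_right (rV_ne_zero i.2)), one_smul]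
  intro u hu
  obtain ⟨a, b, d, rfl⟩ := U_span hu
  rw [hs.add, hs.add, hs.smul, hs.smul, hs.smul]
  have h0 := hfix 0
  have h1 := hfix 1
  have h2 := hfix 2
  simp only [Fin.val_zero, Fin.val_one, Fin.val_two] at h0 h1 h2
  rw [h0, h1, h2]
  rfl

theorem piU_conj {m w : G} (hm : m ∈ Mgrp S) (hmz : m * z = z * m) (hw : w ∈ piU S) :
    m * w * m⁻¹ ∈ piU S :=
  (piU_iff S (conj_mem_M S hm (piU_le_A S hw))).2 (S.norm m hmz w hw.1)

include hp in
theorem seven_free {f : MulAut ↥(Aelem S)} (hf : f ∈ Gam S) (h7 : orderOf f = 7)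
    {v : ↥(Aelem S)} (hv : f v = v) : v = 1 ∨ v ∈ Nset S := by
  by_contra hcon
  simp only [not_or] at hcon
  have hvZ : v ∈ Zset S := by
    by_contra h
    exact hcon.2 ⟨fun e => hcon.1 (Subtype.ext e), h⟩
  obtain ⟨k, hk, hkz⟩ := Zset_trans S hp hvZ
  set f' := k⁻¹ * f * k with hf'
  have ho : orderOf f' = 7 := by
    rw [hf', show k⁻¹ * f * k = MulAut.conj k⁻¹ f by simp]
    show orderOf ((MulAut.conj k⁻¹).toMonoidHom f) = 7
    rw [orderOf_injective (MulAut.conj k⁻¹).toMonoidHom (MulAut.conj k⁻¹).injective, h7]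
  have hfix : f' (zA S) = zA S := by
    show k.symm (f (k (zA S))) = zA S
    rw [hkz, hv, ← hkz, MulEquiv.symm_apply_apply]
  obtain ⟨m, hm⟩ : f' ∈ Gam S := mul_mem (mul_mem (inv_mem hk) hf) hk
  have hmz : (m : G) * z = z * m := by
    have h := congrArg Subtype.val (show gam S m (zA S) = zA S by rw [hm, hfix])
    rw [gam_apply] at h
    exact mul_inv_eq_iff_eq_mul.1 h
  have hm7 : ((m : G) ^ 7) ∈ Aelem S := by
    refine centralizer_A S hp fun a ha => ?_
    have h := congrArg Subtype.val (show gam S (m ^ 7) ⟨a, ha⟩ = ⟨a, ha⟩ by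
      rw [map_pow, hm, ← ho, pow_orderOf_eq_one]; rfl)
    rw [gam_apply] at h
    exact mul_inv_eq_iff_eq_mul.1 h
  have hρ7 : S.ρ ((m : G) ^ 7) = S.ρ (m : G) ^ 7 :=
    map_pow S.rhoHom ⟨(m : G), Subgroup.mem_centralizer_singleton_iff.2 hmz⟩ 7
  have hB := ((mem_Aelem S).1 hm7).1.2
  rw [hρ7] at hB
  have hU : ∀ u ∈ Uset, S.ρ (m : G) u ∈ Uset := by
    intro u hu
    obtain ⟨q, hq, rfl⟩ := S.π_surj u
    rw [← S.ρ_π m hmz q hq]
    exact (piU_conj S m.2 hmz ⟨hq, hu⟩).2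
  obtain ⟨hKl, hUfix⟩ := seven_core S hmz hU (fun u hu => B_fixes_U hB hu) (S_le (B_le_S hB))
  obtain ⟨a, ha, hρa⟩ := A_lift S (mem_B_of_fix hKl hUfix)
  have haz := A_z S ha
  have hQ : (m : G) * a⁻¹ ∈ Q := (S.ρ_ker _ (S.z_comm_mul hmz (S.z_comm_inv haz))).1 (by
    rw [S.ρ_mul _ _ hmz (S.z_comm_inv haz), S.ρ_inv haz, hρa, mul_inv_cancel])
  set q : ↥(Mgrp S) := ⟨(m : G) * a⁻¹, Q_le_normalizer S hQ⟩
  have hgq : gam S q = f' := by
    rw [← hm]
    refine MulEquiv.ext fun b => Subtype.ext ?_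
    rw [gam_apply, gam_apply]
    show (m : G) * a⁻¹ * b * ((m : G) * a⁻¹)⁻¹ = m * b * (m : G)⁻¹
    have := comm_of_mem S ha b.2
    calc (m : G) * a⁻¹ * b * ((m : G) * a⁻¹)⁻¹ = m * a⁻¹ * ((b : G) * a) * (m : G)⁻¹ := by group
      _ = _ := by rw [← this]; group
  have h13 : q ^ (2 ^ 13) = 1 := by
    refine Subtype.ext ?_
    have := orderOf_dvd_iff_pow_eq_one.1 (S.card_Q ▸ Subgroup.orderOf_dvd_natCard Q hQ)
    simpa using this
  have : f' ^ (2 ^ 13) = 1 := by rw [← hgq, ← map_pow, h13, map_one]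
  have := orderOf_dvd_of_pow_eq_one this
  rw [ho] at this
  norm_num at this

/-! ### Order -/

include S in
theorem card_C_dvd : 2 ^ 21 ∣ Nat.card ↥(Subgroup.centralizer ({z} : Set G)) := by
  set K : Subgroup ↥(Subgroup.centralizer ({z} : Set G)) := Kl.comap S.rhoHom with hK
  obtain ⟨c, hc, hcK⟩ := S.outer
  have hidx : K.index = 2 := by
    rw [Subgroup.index_eq_two_iff]
    refine ⟨⟨c, Subgroup.mem_centralizer_singleton_iff.2 hc⟩, fun b => ?_⟩
    have h := S.two (b : G) c (Subgroup.mem_centralizer_singleton_iff.1 b.2) hc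
    rw [xor_iff_iff_not]
    show S.ρ ((b : G) * c) ∈ Kl ↔ ¬S.ρ (b : G) ∈ Kl
    rw [h]
    tauto
  have hrange : (S.rhoHom.comp K.subtype).range = Kl := by
    rw [MonoidHom.range_comp, Subgroup.range_subtype, hK, Subgroup.map_comap_eq_self]
    intro b hb
    obtain ⟨d, hd, e⟩ := S.ρ_surj b hb
    exact ⟨⟨d, Subgroup.mem_centralizer_singleton_iff.2 hd⟩, e⟩
  have hker : Nat.card (S.rhoHom.comp K.subtype).ker = 2 ^ 13 := by
    have hQC : Q ≤ Subgroup.centralizer ({z} : Set G) := fun q hq =>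
      Subgroup.mem_centralizer_singleton_iff.2 (S.le q hq)
    have hQK : Q.subgroupOf (Subgroup.centralizer ({z} : Set G)) ≤ K := by
      intro q hq
      show S.rhoHom q ∈ Kl
      rw [MonoidHom.mem_ker.1 (S.rhoHom_ker.symm ▸ hq : q ∈ S.rhoHom.ker)]
      exact one_mem _
    rw [← MonoidHom.comap_ker, S.rhoHom_ker,
      show (Q.subgroupOf (Subgroup.centralizer ({z} : Set G))).comap K.subtype =
        (Q.subgroupOf (Subgroup.centralizer ({z} : Set G))).subgroupOf K from rfl,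
      Nat.card_congr (Subgroup.subgroupOfEquivOfLe hQK).toEquiv,
      Nat.card_congr (Subgroup.subgroupOfEquivOfLe hQC).toEquiv, S.card_Q]
  rw [← Subgroup.card_mul_index K, hidx, ← Subgroup.card_mul_index (S.rhoHom.comp K.subtype).ker,
    Subgroup.index_ker, hrange, hker, card_Kl]
  norm_num

include hp in
theorem gam_ker : (gam S).ker = (Aelem S).subgroupOf (Mgrp S) := by
  rw [gam, Subgroup.normalizerMonoidHom_ker]
  ext m
  rw [Subgroup.mem_subgroupOf, Subgroup.mem_subgroupOf, Subgroup.mem_centralizer_iff]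
  exact ⟨fun h => centralizer_A S hp fun a ha => (h a ha).symm, fun h a ha => comm_of_mem S ha h⟩

include hp in
theorem card_Gam_dvd : 27202560 ∣ Nat.card (Gam S) := by
  have := Fact.mk Nat.prime_two
  obtain ⟨P, hAP, hPz, huniq⟩ := sylow_main S hp
  have hPM : (P : Subgroup G) ≤ Mgrp S := by
    intro x hx
    have h : (Aelem S).map (MulAut.conj x).toMonoidHom = Aelem S := by
      refine huniq _ ?_ ((isElementaryAbelian_map _ (MulAut.conj x).injective).2 (A_elementary S))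
        (by rw [card_map_inj _ (MulAut.conj x).injective, H43.LFi.card_A])
      rintro _ ⟨a, ha, rfl⟩
      exact (P : Subgroup G).mul_mem ((P : Subgroup G).mul_mem hx (hAP ha))
        ((P : Subgroup G).inv_mem hx)
    rw [Subgroup.mem_normalizer_iff]
    intro a
    constructor
    · intro ha
      have := Subgroup.mem_map_of_mem (MulAut.conj x).toMonoidHom ha
      rw [h] at this
      exact this
    · intro ha
      have ha' : x * a * x⁻¹ ∈ (Aelem S).map (MulAut.conj x).toMonoidHom := h.symm ▸ ha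
      obtain ⟨b, hb, e⟩ := ha'
      exact mul_left_cancel (mul_right_cancel (show x * b * x⁻¹ = x * a * x⁻¹ from e)) ▸ hb
  have h21 : 2 ^ 21 ∣ Nat.card (Mgrp S) := by
    refine dvd_trans ?_ (Subgroup.card_dvd_of_le hPM)
    obtain ⟨R, hR, hle⟩ := Sylow.exists_subgroup_card_pow_prime (G := G) 2
      ((card_C_dvd S).trans (Subgroup.card_subgroup_dvd_card _)) |>.elim
        (fun R hR => (⟨R, hR, (IsPGroup.of_card hR).exists_le_sylow⟩ :
          ∃ R : Subgroup G, Nat.card R = 2 ^ 21 ∧ ∃ P' : Sylow 2 G, R ≤ (P' : Subgroup G)))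
    obtain ⟨P', hle⟩ := hle
    have := Subgroup.card_dvd_of_le hle
    rw [hR, Sylow.card_eq_multiplicity] at this
    rwa [Sylow.card_eq_multiplicity]
  have hM : Nat.card (Mgrp S) = 2 ^ 11 * Nat.card (Gam S) := by
    rw [← Subgroup.card_mul_index (gam S).ker, Subgroup.index_ker, gam_ker S hp,
      Nat.card_congr (Subgroup.subgroupOfEquivOfLe
        (show Aelem S ≤ Mgrp S from Subgroup.le_normalizer)).toEquiv, H43.LFi.card_A]
    rfl
  rw [hM, show 2 ^ 21 = 2 ^ 11 * 2 ^ 10 by norm_num] at h21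
  have h10 := Nat.dvd_of_mul_dvd_mul_left (by norm_num) h21
  -- the orbit of the outer non-conjugates under the stabiliser of the central involution
  obtain ⟨x, hx, hxN, hxQ⟩ := exists_outer S hp
  let St := MulAction.stabilizer ↥(Gam S) (zA S)
  set O : Set ↥(Aelem S) := {a | a ∈ Nset S ∧ (a : G) ∉ Q} with hO
  have horb : MulAction.orbit ↥St (⟨x, hx⟩ : ↥(Aelem S)) = O := by
    ext a
    constructor
    · rintro ⟨⟨⟨f, hf⟩, hfz⟩, rfl⟩
      obtain ⟨m, hm, e⟩ := Gam_conj S hf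
      have hmz : m * z = z * m := by
        have h := congrArg Subtype.val (show f (zA S) = zA S from hfz)
        rw [e] at h
        exact mul_inv_eq_iff_eq_mul.1 h
      refine ⟨Gam_Nset S hf hxN, fun hQ => hxQ ?_⟩
      change ((f ⟨x, hx⟩ : ↥(Aelem S)) : G) ∈ Q at hQ
      rw [e] at hQ
      have := S.norm m⁻¹ (S.z_comm_inv hmz) _ hQ
      simpa [mul_assoc] using this
    · rintro ⟨haN, haQ⟩
      obtain ⟨m, hm, hmz, e⟩ := outer_trans S hp hx hxN hxQ a.2 haN haQ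
      exact ⟨⟨⟨gam S ⟨m, hm⟩, _, rfl⟩, Subtype.ext (by
        show m * z * m⁻¹ = z
        rw [hmz, mul_inv_cancel_right])⟩, Subtype.ext e⟩
  have hOc : O.ncard = 240 := by
    have hW : {a | a ∈ Nset S ∧ (a : G) ∈ Q}.ncard = 36 := by
      rw [← fib_zero S hp, ← Set.ncard_image_of_injective _ Subtype.val_injective]
      congr 1
      ext a
      constructor
      · rintro ⟨⟨a, ha⟩, ⟨hN, hQ⟩, rfl⟩
        exact ⟨ha, hN, (ρ_A_zero S ha).2 hQ⟩
      · rintro ⟨ha, hN, hρ⟩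
        exact ⟨⟨a, ha⟩, ⟨hN, (ρ_A_zero S ha).1 hρ⟩, rfl⟩
    have := Set.ncard_inter_add_ncard_sdiff_eq_ncard (Nset S) {a : ↥(Aelem S) | (a : G) ∈ Q}
      (Set.toFinite _)
    rw [(card_N_eq S hp).1, show Nset S ∩ {a : ↥(Aelem S) | (a : G) ∈ Q} =
      {a | a ∈ Nset S ∧ (a : G) ∈ Q} from rfl, hW] at this
    have hh : Nset S \ {a : ↥(Aelem S) | (a : G) ∈ Q} = O := rfl
    rw [hh] at this
    omega
  have h240 : 240 ∣ Nat.card St := by
    rw [← hOc, ← horb, ← MulAction.index_stabilizer]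
    exact Subgroup.index_dvd_card _
  have hidx : St.index = 1771 := by
    rw [MulAction.index_stabilizer, ← (card_N_eq S hp).2]
    congr 1
    ext a
    constructor
    · rintro ⟨f, rfl⟩
      obtain ⟨m, -, e⟩ := Gam_conj S f.2
      exact isConj_iff.2 ⟨m, (e (zA S)).symm⟩
    · intro ha
      obtain ⟨f, hf, rfl⟩ := Zset_trans S hp ha
      exact ⟨⟨f, hf⟩, rfl⟩
  have hc : Nat.card St * 1771 = Nat.card (Gam S) := hidx ▸ Subgroup.card_mul_index St
  rw [← hc] at h10 ⊢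
  have h1024 : 2 ^ 10 ∣ Nat.card St := (Nat.Coprime.dvd_mul_right (by norm_num)).1 h10
  have h15360 : 15360 ∣ Nat.card St := by
    have := Nat.lcm_dvd h240 h1024
    rwa [show Nat.lcm 240 (2 ^ 10) = 15360 by decide +kernel] at this
  rw [show 27202560 = 15360 * 1771 by norm_num]
  exact Nat.mul_dvd_mul_right h15360 1771

end Cfsg.Agent.H61.Todd
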