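import Cfsg.Agent.H61.Todd.Edge

/-!
The cliques of size 23 are 24 in number; `N` corresponds to their unordered pairs, compatibly
with the multiplication.
-/

set_option autoImplicit false

namespace Cfsg.Agent.H61.Todd

variable {V : Type*} [CommGroup V] [Finite V]

namespace Data

variable {Γ : Subgroup (MulAut V)} (D : Data Γ)
include D

/-- The clique through an edge. -/
def S (t u : V) : Set V := insert t (insert u (D.Com t u))

omit [Finite V] in
theorem Com_comm (t u : V) : D.Com t u = D.Com u t := by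
  ext v
  show (_ ∧ _ ∧ _) ↔ (_ ∧ _ ∧ _)
  rw [mul_comm t u]
  tauto

omit [Finite V] in
theorem S_comm (t u : V) : D.S t u = D.S u t := by
  rw [S, S, D.Com_comm t u, Set.insert_comm]

omit [Finite V] in
theorem mem_S {t u v : V} : v ∈ D.S t u ↔ v = t ∨ v = u ∨ v ∈ D.Com t u := by
  simp [S]

theorem S_card {t u : V} (ht : t ∈ D.N) (hu : u ∈ D.Nb t) : (D.S t u).ncard = 23 := by
  rw [S, Set.ncard_insert_of_notMem, Set.ncard_insert_of_notMem, (D.edge ht hu).2.1]
  · exact fun h => D.ne_of_Nb h.2.1 rfl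
  · simp only [Set.mem_insert_iff, not_or]
    exact ⟨(D.ne_of_Nb hu).symm, fun h => D.ne_of_Nb h.1 rfl⟩

omit [Finite V] in
theorem S_sub {t u : V} (ht : t ∈ D.N) (hu : u ∈ D.Nb t) : D.S t u ⊆ D.N := fun v hv => by
  rcases D.mem_S.1 hv with rfl | rfl | h
  exacts [ht, hu.1, h.1.1]

theorem S_adj {t u a b : V} (ht : t ∈ D.N) (hu : u ∈ D.Nb t) (ha : a ∈ D.S t u) (hb : b ∈ D.S t u)
    (hab : a ≠ b) : a * b ∈ D.N := by
  rcases D.mem_S.1 ha with rfl | rfl | ha' <;> rcases D.mem_S.1 hb with rfl | rfl | hb'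
  · exact absurd rfl hab
  · exact hu.2
  · exact hb'.1.2
  · rw [mul_comm]; exact hu.2
  · exact absurd rfl hab
  · exact hb'.2.1.2
  · rw [mul_comm]; exact ha'.1.2
  · rw [mul_comm]; exact ha'.2.1.2
  · exact (D.edge ht hu).2.2.2 a ha' b hb' hab

theorem mul_notMem_S {t u b : V} (ht : t ∈ D.N) (hu : u ∈ D.Nb t) (hb : b ∈ D.S t u)
    (hbt : b ≠ t) : t * b ∉ D.S t u := by
  intro h
  rcases D.mem_S.1 hb with rfl | rfl | hb'
  · exact hbt rfl
  · rcases D.mem_S.1 h with e | e | e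
    · exact D.ne_one_of_N hu.1 (mul_eq_left.1 e)
    · exact D.ne_one_of_N ht (mul_eq_right.1 e)
    · exact e.2.2 rfl
  · rcases D.mem_S.1 h with e | e | e
    · exact D.ne_one_of_N hb'.1.1 (mul_eq_left.1 e)
    · exact hb'.2.2 (by rw [← e, D.cancel])
    · have h1 := ((D.edge ht hu).2.2.1 b hb'.1 (D.ne_of_Nb hb'.2.1) hb'.2.2).1 hb'.2.1.2
      have h2 := e.2.1.2
      rw [← mul_assoc, mul_comm u t] at h2
      exact h1 h2

theorem S_noprod {t u a b : V} (ht : t ∈ D.N) (hu : u ∈ D.Nb t) (ha : a ∈ D.S t u)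
    (hb : b ∈ D.S t u) (hab : a ≠ b) : a * b ∉ D.S t u := by
  have huN := hu.1
  have htu := D.Nb_symm ht hu
  rcases D.mem_S.1 ha with rfl | rfl | ha'
  · exact D.mul_notMem_S ht hu hb hab.symm
  · rw [D.S_comm] at hb ⊢
    exact D.mul_notMem_S huN htu hb hab.symm
  rcases D.mem_S.1 hb with rfl | rfl | hb'
  · rw [mul_comm]; exact D.mul_notMem_S ht hu ha hab
  · rw [mul_comm, D.S_comm]; exact D.mul_notMem_S huN htu (D.S_comm _ _ ▸ ha) hab
  intro h
  rcases D.mem_S.1 h with e | e | e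
  · refine D.mul_notMem_S ht hu ha (D.ne_of_Nb ha'.1) ?_
    have h' : t * a = b := by rw [← e, D.cancel_mid]
    rwa [h']
  · rw [D.S_comm] at ha hb
    refine D.mul_notMem_S huN htu ha (D.ne_of_Nb ha'.2.1) ?_
    have h' : u * a = b := by rw [← e, D.cancel_mid]
    rwa [h']
  · have h1 := (D.edge ht ha'.1).2.2.1 b hb'.1 hab.symm (fun eb => ?_)
    · have h2 := e.1.2
      rw [← mul_assoc] at h2
      exact h1.1 ((D.edge ht hu).2.2.2 a ha' b hb' hab) h2
    · exact D.mul_notMem_S ht hu ha (D.ne_of_Nb ha'.1) (eb ▸ hb)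

theorem S_eq {t u a b : V} (ht : t ∈ D.N) (hu : u ∈ D.Nb t) (ha : a ∈ D.S t u) (hb : b ∈ D.S t u)
    (hab : a ≠ b) : b ∈ D.Nb a ∧ D.S t u = D.S a b := by
  have haN := D.S_sub ht hu ha
  have hbN : b ∈ D.Nb a := ⟨D.S_sub ht hu hb, D.S_adj ht hu ha hb hab⟩
  refine ⟨hbN, Set.eq_of_subset_of_ncard_le (fun c hc => ?_)
    (by rw [D.S_card ht hu, D.S_card haN hbN]) (Set.toFinite _)⟩
  rw [D.mem_S]
  by_cases hca : c = a
  · exact Or.inl hca
  by_cases hcb : c = b
  · exact Or.inr (Or.inl hcb)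
  have hcN := D.S_sub ht hu hc
  exact Or.inr (Or.inr ⟨⟨hcN, D.S_adj ht hu ha hc (Ne.symm hca)⟩,
    ⟨hcN, D.S_adj ht hu hb hc (Ne.symm hcb)⟩, fun e => D.S_noprod ht hu ha hb hab (e ▸ hc)⟩)

/-- Being one of the cliques. -/
def IsStar (s : Set V) : Prop := ∃ t ∈ D.N, ∃ u ∈ D.Nb t, s = D.S t u

/-- The cliques, the points of the plane set. -/
abbrev Star : Type _ := {s : Set V // D.IsStar s}

theorem star_sub (s : D.Star) : s.1 ⊆ D.N := by
  obtain ⟨t, ht, u, hu, h⟩ := s.2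
  rw [h]; exact D.S_sub ht hu

theorem star_card (s : D.Star) : s.1.ncard = 23 := by
  obtain ⟨t, ht, u, hu, h⟩ := s.2
  rw [h]; exact D.S_card ht hu

theorem star_eq {s : D.Star} {a b : V} (ha : a ∈ s.1) (hb : b ∈ s.1) (hab : a ≠ b) :
    b ∈ D.Nb a ∧ s.1 = D.S a b := by
  obtain ⟨t, ht, u, hu, h⟩ := s.2
  rw [h] at ha hb ⊢
  exact D.S_eq ht hu ha hb hab

theorem exists_nb {t : V} (ht : t ∈ D.N) : ∃ u, u ∈ D.Nb t := by
  obtain ⟨t₀, htW, ht₀⟩ := D.exists_base
  obtain ⟨g, hg, rfl⟩ := D.trans t₀ ht₀ t ht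
  obtain ⟨u, hu⟩ : (D.Nb t₀).Nonempty :=
    Set.nonempty_of_ncard_ne_zero (by rw [D.Nb_card₀ htW ht₀]; norm_num)
  exact ⟨g u, (D.Nb_map hg t₀ u).2 hu⟩

theorem two_stars {t : V} (ht : t ∈ D.N) :
    ∃ a b : D.Star, a ≠ b ∧ t ∈ a.1 ∧ t ∈ b.1 ∧ ∀ s : D.Star, t ∈ s.1 → s = a ∨ s = b := by
  obtain ⟨u, hu⟩ := D.exists_nb ht
  have htu := D.mul_mem_Nb hu
  refine ⟨⟨D.S t u, t, ht, u, hu, rfl⟩, ⟨D.S t (t * u), t, ht, _, htu, rfl⟩, fun h => ?_,
    D.mem_S.2 (Or.inl rfl), D.mem_S.2 (Or.inl rfl), fun s hs => ?_⟩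
  · have h' : D.S t u = D.S t (t * u) := congrArg Subtype.val h
    exact D.mul_notMem_S ht hu (D.mem_S.2 (Or.inr (Or.inl rfl))) (D.ne_of_Nb hu)
      (h' ▸ D.mem_S.2 (Or.inr (Or.inl rfl)))
  obtain ⟨v, hv, hvt⟩ : ∃ v ∈ s.1, v ≠ t := by
    by_contra h
    have : s.1 ⊆ {t} := fun w hw => by_contra fun hne => h ⟨w, hw, hne⟩
    have h2 := Set.ncard_le_ncard this (Set.toFinite _)
    rw [D.star_card, Set.ncard_singleton] at h2
    omega
  obtain ⟨hvN, hs'⟩ := D.star_eq hs hv hvt.symm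
  have key : ∀ w, w ∈ D.Nb t → v ∈ D.S t w → s.1 = D.S t w := fun w hw h =>
    hs'.trans (D.S_eq ht hw (D.mem_S.2 (Or.inl rfl)) h hvt.symm).2.symm
  by_cases h1 : v = u
  · exact Or.inl (Subtype.ext (key u hu (D.mem_S.2 (Or.inr (Or.inl h1)))))
  by_cases h2 : v = t * u
  · exact Or.inr (Subtype.ext (key _ htu (D.mem_S.2 (Or.inr (Or.inl h2)))))
  by_cases h3 : u * v ∈ D.N
  · exact Or.inl (Subtype.ext (key u hu
      (D.mem_S.2 (Or.inr (Or.inr ⟨hvN, ⟨hvN.1, h3⟩, h2⟩)))))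
  · have h4 : t * u * v ∈ D.N :=
      by_contra fun h => h3 (((D.edge ht hu).2.2.1 v hvN h1 h2).2 h)
    exact Or.inr (Subtype.ext (key _ htu
      (D.mem_S.2 (Or.inr (Or.inr ⟨hvN, ⟨hvN.1, h4⟩, by rw [D.cancel]; exact h1⟩)))))

theorem card_star : Nat.card D.Star = 24 := by
  classical
  let i1 := Fintype.ofFinite D.Star
  let i2 := Fintype.ofFinite ↥D.N
  let i3 : ∀ s : D.Star, Fintype ↥s.1 := fun s => Fintype.ofFinite _
  let i4 : ∀ t : ↥D.N, Fintype {s : D.Star // (t : V) ∈ s.1} := fun t => Fintype.ofFinite _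
  let e : (Σ s : D.Star, ↥s.1) ≃ Σ t : ↥D.N, {s : D.Star // (t : V) ∈ s.1} :=
    { toFun := fun p => ⟨⟨p.2.1, D.star_sub p.1 p.2.2⟩, p.1, p.2.2⟩
      invFun := fun p => ⟨p.2.1, p.1.1, p.2.2⟩
      left_inv := fun p => rfl
      right_inv := fun p => rfl }
  have h := Nat.card_congr e
  have h23 : ∀ s : D.Star, Nat.card ↥s.1 = 23 := fun s => by
    rw [Nat.card_coe_set_eq, D.star_card]
  have h2 : ∀ t : ↥D.N, Nat.card {s : D.Star // (t : V) ∈ s.1} = 2 := fun t => by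
    obtain ⟨a, b, hab, ha, hb, hall⟩ := D.two_stars t.2
    rw [Nat.card_eq_two_iff]
    refine ⟨⟨a, ha⟩, ⟨b, hb⟩, fun h => hab (congrArg Subtype.val h), ?_⟩
    rw [Set.eq_univ_iff_forall]
    rintro ⟨s, hs⟩
    rcases hall s hs with rfl | rfl
    · exact Or.inl rfl
    · exact Or.inr rfl
  rw [Nat.card_sigma, Nat.card_sigma] at h
  simp only [h23, h2, Finset.sum_const, Finset.card_univ, smul_eq_mul] at h
  rw [← Nat.card_eq_fintype_card, ← Nat.card_eq_fintype_card, Nat.card_coe_set_eq, D.card_N] at h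
  omega

theorem common_unique {a b : D.Star} (hab : a ≠ b) {v w : V} (hva : v ∈ a.1) (hvb : v ∈ b.1)
    (hwa : w ∈ a.1) (hwb : w ∈ b.1) : v = w := by
  by_contra hne
  exact hab (Subtype.ext ((D.star_eq hva hwa hne).2.trans (D.star_eq hvb hwb hne).2.symm))

theorem common_exists {a b : D.Star} (hab : a ≠ b) : ∃ v, v ∈ a.1 ∧ v ∈ b.1 := by
  classical
  let i1 := Fintype.ofFinite D.Star
  let i2 := Fintype.ofFinite ↥D.N
  let f : ↥D.N → Finset D.Star := fun t => Finset.univ.filter fun s => (t : V) ∈ s.1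
  have hf : ∀ t, f t ∈ (Finset.univ : Finset D.Star).powersetCard 2 := fun t => by
    obtain ⟨a, b, hab, ha, hb, hall⟩ := D.two_stars t.2
    refine Finset.mem_powersetCard.2 ⟨Finset.subset_univ _, Finset.card_eq_two.2 ⟨a, b, hab, ?_⟩⟩
    ext s
    simp only [f, Finset.mem_filter, Finset.mem_univ, true_and, Finset.mem_insert,
      Finset.mem_singleton]
    exact ⟨hall s, by rintro (rfl | rfl) <;> assumption⟩
  have hinj : Function.Injective f := fun t u h => by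
    obtain ⟨a, b, hab, ha, hb, -⟩ := D.two_stars t.2
    have hm : ∀ s : D.Star, (t : V) ∈ s.1 → (u : V) ∈ s.1 := fun s hs => by
      have : s ∈ f t := by simp [f, hs]
      rw [h] at this
      simpa [f] using this
    exact Subtype.ext (D.common_unique hab ha hb (hm a ha) (hm b hb))
  have heq : Finset.univ.image f = (Finset.univ : Finset D.Star).powersetCard 2 := by
    refine Finset.eq_of_subset_of_card_le (fun s hs => ?_) (le_of_eq ?_)
    · obtain ⟨t, -, rfl⟩ := Finset.mem_image.1 hs; exact hf t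
    · rw [Finset.card_powersetCard, Finset.card_image_of_injective _ hinj, Finset.card_univ,
        Finset.card_univ, ← Nat.card_eq_fintype_card, ← Nat.card_eq_fintype_card, D.card_star,
        Nat.card_coe_set_eq, D.card_N]
      decide
  have hmem : ({a, b} : Finset D.Star) ∈ (Finset.univ : Finset D.Star).powersetCard 2 :=
    Finset.mem_powersetCard.2 ⟨Finset.subset_univ _, Finset.card_pair hab⟩
  rw [← heq] at hmem
  obtain ⟨t, -, ht⟩ := Finset.mem_image.1 hmem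
  refine ⟨t, ?_, ?_⟩
  · have : a ∈ f t := by rw [ht]; simp
    simpa [f] using this
  · have : b ∈ f t := by rw [ht]; simp
    simpa [f] using this

open Classical in
/-- The element common to two cliques. -/
noncomputable def e (a b : D.Star) : V := if h : a = b then 1 else (D.common_exists h).choose

theorem e_self (a : D.Star) : D.e a a = 1 := dif_pos rfl

theorem e_mem {a b : D.Star} (h : a ≠ b) : D.e a b ∈ a.1 ∧ D.e a b ∈ b.1 := by
  rw [e, dif_neg h]
  exact (D.common_exists h).choose_spec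

theorem e_N {a b : D.Star} (h : a ≠ b) : D.e a b ∈ D.N := D.star_sub a (D.e_mem h).1

theorem e_eq {a b : D.Star} (h : a ≠ b) {v : V} (ha : v ∈ a.1) (hb : v ∈ b.1) : D.e a b = v :=
  D.common_unique h (D.e_mem h).1 (D.e_mem h).2 ha hb

theorem e_comm (a b : D.Star) : D.e a b = D.e b a := by
  by_cases h : a = b
  · subst h; rfl
  · exact D.e_eq h (D.e_mem (Ne.symm h)).2 (D.e_mem (Ne.symm h)).1

theorem eq_of_two {t : V} {a b s : D.Star} (hab : a ≠ b) (ha : t ∈ a.1) (hb : t ∈ b.1)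
    (hs : t ∈ s.1) : s = a ∨ s = b := by
  obtain ⟨p, q, hpq, -, -, hall⟩ := D.two_stars (D.star_sub a ha)
  have hA := hall a ha
  have hB := hall b hb
  have hS := hall s hs
  rcases hA with hA | hA <;> rcases hB with hB | hB <;> rcases hS with hS | hS <;>
    subst hA hB hS <;> simp at *

theorem e_mul (a b c : D.Star) : D.e a b * D.e b c = D.e a c := by
  by_cases hab : a = b
  · subst hab; rw [D.e_self, one_mul]
  by_cases hbc : b = c
  · subst hbc; rw [D.e_self, mul_one]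
  by_cases hac : a = c
  · subst hac; rw [D.e_comm b a, D.sq, D.e_self]
  obtain ⟨hta, htb⟩ := D.e_mem hab
  obtain ⟨hub, huc⟩ := D.e_mem hbc
  set t := D.e a b
  set u := D.e b c
  have htu : t ≠ u := fun h => by
    rcases D.eq_of_two hab hta htb (s := c) (h ▸ huc) with e | e
    exacts [hac e.symm, hbc e.symm]
  obtain ⟨hu, hbS⟩ := D.star_eq htb hub htu
  have htN := D.star_sub b htb
  have hnb : t * u ∉ b.1 := by
    rw [hbS]
    exact D.mul_notMem_S htN hu (D.mem_S.2 (Or.inr (Or.inl rfl))) htu.symm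
  have hu' : t * u ∈ D.Nb u := by
    have := D.mul_mem_Nb (D.Nb_symm htN hu)
    rwa [mul_comm u t] at this
  have hA : t * u ∈ a.1 := by
    let s : D.Star := ⟨D.S t (t * u), t, htN, _, D.mul_mem_Nb hu, rfl⟩
    have hm : t * u ∈ s.1 := D.mem_S.2 (Or.inr (Or.inl rfl))
    rcases D.eq_of_two hab hta htb (s := s) (D.mem_S.2 (Or.inl rfl)) with e | e
    · exact e ▸ hm
    · exact absurd (e ▸ hm) hnb
  have hC : t * u ∈ c.1 := by
    let s : D.Star := ⟨D.S u (t * u), u, hu.1, _, hu', rfl⟩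
    have hm : t * u ∈ s.1 := D.mem_S.2 (Or.inr (Or.inl rfl))
    rcases D.eq_of_two hbc hub huc (s := s) (D.mem_S.2 (Or.inl rfl)) with e | e
    · exact absurd (e ▸ hm) hnb
    · exact e ▸ hm
  exact (D.e_eq hac hA hC).symm

end Data

end Cfsg.Agent.H61.Todd
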