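import Cfsg.Agent.H61.Todd.Instance

/-!
Transfer to the Thompson subgroup of an arbitrary Sylow subgroup.
-/

set_option autoImplicit false
set_option maxRecDepth 20000

namespace Cfsg.Agent.H61.Todd

open Cfsg Cfsg.Agent.Compute Cfsg.Agent.Unitary Cfsg.Agent.H41.SUSix Cfsg.Agent.H41.LFi
  Cfsg.Agent.H43.LFi Matrix

attribute [local irreducible] mC sigC bIdx wApC mulVecC wP eP uC

variable {G : Type*} [Group G] [Finite G] {z g : G} {Q : Subgroup G} (S : LSetup z Q)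
  (hp : H92.PairSetting Q z g)

theorem mem_conj_map {x v : G} :
    v ∈ (Aelem S).map (MulAut.conj x).toMonoidHom ↔ x⁻¹ * v * x ∈ Aelem S := by
  rw [Subgroup.mem_map_equiv, MulAut.conj_symm_apply]

theorem mem_conj_normalizer {x m : G} :
    m ∈ Subgroup.normalizer (((Aelem S).map (MulAut.conj x).toMonoidHom : Subgroup G) : Set G) ↔
      x⁻¹ * m * x ∈ Mgrp S := by
  rw [Subgroup.mem_normalizer_iff, Subgroup.mem_normalizer_iff]
  simp only [SetLike.mem_coe, mem_conj_map]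
  constructor
  · intro h v
    have := h (x * v * x⁻¹)
    rw [show x⁻¹ * (x * v * x⁻¹) * x = v by group,
      show x⁻¹ * (m * (x * v * x⁻¹) * m⁻¹) * x = x⁻¹ * m * x * v * (x⁻¹ * m * x)⁻¹ by group] at this
    exact this
  · intro h v
    have := h (x⁻¹ * v * x)
    rw [show x⁻¹ * m * x * (x⁻¹ * v * x) * (x⁻¹ * m * x)⁻¹ = x⁻¹ * (m * v * m⁻¹) * x by group]
      at this
    exact this

include hp in
/-- The normaliser of a conjugate, and its action. -/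
theorem transfer (x : G) :
    ∃ ψ : ↥(Subgroup.normalizer (((Aelem S).map (MulAut.conj x).toMonoidHom : Subgroup G) : Set G))
        →* ↥(Gam S),
      Function.Surjective ψ ∧
      ψ.ker = ((Aelem S).map (MulAut.conj x).toMonoidHom).subgroupOf _ ∧
      ∀ m, ∀ a : ↥(Aelem S), ((ψ m : MulAut ↥(Aelem S)) a = a ↔
        (m : G) * (x * a * x⁻¹) = x * a * x⁻¹ * m) := by
  set M' := Subgroup.normalizer (((Aelem S).map (MulAut.conj x).toMonoidHom : Subgroup G) : Set G)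
  let c : ↥M' →* ↥(Mgrp S) := MonoidHom.mk'
    (fun m => ⟨x⁻¹ * m * x, (mem_conj_normalizer S).1 m.2⟩)
    fun a b => Subtype.ext (by
      show x⁻¹ * ((a : G) * b) * x = x⁻¹ * a * x * (x⁻¹ * b * x)
      group)
  refine ⟨(gam S).rangeRestrict.comp c, ?_, ?_, fun m a => ?_⟩
  · refine (gam S).rangeRestrict_surjective.comp fun m => ?_
    refine ⟨⟨x * m * x⁻¹, (mem_conj_normalizer S).2 ?_⟩, Subtype.ext ?_⟩
    · rw [show x⁻¹ * (x * m * x⁻¹) * x = (m : G) by group]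
      exact m.2
    · show x⁻¹ * (x * m * x⁻¹) * x = m
      group
  · ext m
    have hk : c m ∈ (gam S).ker ↔ x⁻¹ * (m : G) * x ∈ Aelem S := by
      rw [gam_ker S hp]; exact Iff.rfl
    rw [Subgroup.mem_subgroupOf, mem_conj_map, ← hk]
    exact ⟨fun h => MonoidHom.mem_ker.2 (congrArg Subtype.val (MonoidHom.mem_ker.1 h)),
      fun h => MonoidHom.mem_ker.2 (Subtype.ext (MonoidHom.mem_ker.1 h))⟩
  · refine Subtype.ext_iff.trans ?_
    show x⁻¹ * m * x * a * (x⁻¹ * m * x)⁻¹ = (a : G) ↔ _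
    constructor
    · intro h
      calc (m : G) * (x * a * x⁻¹) = x * (x⁻¹ * m * x * a * (x⁻¹ * m * x)⁻¹) * x⁻¹ * m := by group
        _ = _ := by rw [h]
    · intro h
      calc x⁻¹ * m * x * a * (x⁻¹ * m * x)⁻¹ = x⁻¹ * ((m : G) * (x * a * x⁻¹)) * (m : G)⁻¹ * x := by
            group
        _ = a := by rw [h]; group

include hp in
/-- Fusion and orbits. -/
theorem fusion_orbits (x : G) {A : Subgroup G} (hA : A = (Aelem S).map (MulAut.conj x).toMonoidHom) :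
    (∀ a ∈ A, ∀ y : G, y * a * y⁻¹ ∈ A →
      ∃ m ∈ Subgroup.normalizer (A : Set G), m * a * m⁻¹ = y * a * y⁻¹) ∧
    (∃ a ∈ A, a ≠ 1 ∧ IsConj z a) ∧ (∃ a ∈ A, a ≠ 1 ∧ ¬IsConj z a) ∧
    ∀ a ∈ A, ∀ b ∈ A, a ≠ 1 → b ≠ 1 → (IsConj z a ↔ IsConj z b) →
      ∃ m ∈ Subgroup.normalizer (A : Set G), m * a * m⁻¹ = b := by
  subst hA
  have hc : ∀ a : G, IsConj z (x⁻¹ * a * x) ↔ IsConj z a := fun a => by
    have h : IsConj a (x⁻¹ * a * x) := isConj_iff.2 ⟨x⁻¹, by group⟩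
    exact ⟨fun h' => h'.trans h.symm, fun h' => h'.trans h⟩
  have back : ∀ (a b : G), (∃ m ∈ Mgrp S, m * (x⁻¹ * a * x) * m⁻¹ = x⁻¹ * b * x) →
      ∃ m ∈ Subgroup.normalizer
        (((Aelem S).map (MulAut.conj x).toMonoidHom : Subgroup G) : Set G), m * a * m⁻¹ = b := by
    rintro a b ⟨m, hm, e⟩
    refine ⟨x * m * x⁻¹, (mem_conj_normalizer S).2 ?_, ?_⟩
    · rw [show x⁻¹ * (x * m * x⁻¹) * x = m by group]
      exact hm
    · calc x * m * x⁻¹ * a * (x * m * x⁻¹)⁻¹ = x * (m * (x⁻¹ * a * x) * m⁻¹) * x⁻¹ := by group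
        _ = b := by rw [e]; group
  refine ⟨fun a ha y hy => back _ _ ?_, ?_, ?_, fun a ha b hb h1 h2 hiff => back _ _ ?_⟩
  · rw [mem_conj_map] at ha hy
    obtain ⟨m, hm, e⟩ := fusion S hp ha (y := x⁻¹ * y * x) (by
      rwa [show x⁻¹ * y * x * (x⁻¹ * a * x) * (x⁻¹ * y * x)⁻¹ = x⁻¹ * (y * a * y⁻¹) * x by group])
    exact ⟨m, hm, e.trans (by group)⟩
  · refine ⟨x * z * x⁻¹, ⟨z, z_mem_A S, rfl⟩, fun e => S.z_ne ?_, isConj_iff.2 ⟨x, rfl⟩⟩
    calc z = x⁻¹ * (x * z * x⁻¹) * x := by group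
      _ = 1 := by rw [e]; group
  · obtain ⟨v, hv, hvN, -⟩ := exists_outer S hp
    exact ⟨x * v * x⁻¹, ⟨v, hv, rfl⟩, (Nc_conj hvN x).1, (Nc_conj hvN x).2⟩
  · rw [mem_conj_map] at ha hb
    by_cases hz : IsConj z a
    · obtain ⟨f, hf, ef⟩ := Zset_trans S hp (a := ⟨_, ha⟩) ((hc a).2 hz)
      obtain ⟨f', hf', ef'⟩ := Zset_trans S hp (a := ⟨_, hb⟩) ((hc b).2 (hiff.1 hz))
      obtain ⟨m, hm, e⟩ := Gam_conj S (mul_mem hf' (inv_mem hf))
      refine ⟨m, hm, ?_⟩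
      rw [← e ⟨_, ha⟩, ← ef]
      show ((f' (f.symm (f (zA S))) : ↥(Aelem S)) : G) = _
      rw [MulEquiv.symm_apply_apply, ef']
    · have hne : ∀ w : G, w ≠ 1 → x⁻¹ * w * x ≠ 1 := fun w hw e => hw (by
        calc w = x * (x⁻¹ * w * x) * x⁻¹ := by group
          _ = 1 := by rw [e]; group)
      exact N_trans S hp ha ⟨hne a h1, fun h => hz ((hc a).1 h)⟩ hb
        ⟨hne b h2, fun h => hz (hiff.2 ((hc b).1 h))⟩

end Cfsg.Agent.H61.Todd
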